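import Cfsg.Agent.H348.Der.Class
import Cfsg.Agent.ClassicalGeometry.SympAutOddA
import Cfsg.Agent.ClassicalGeometry.SympAutExists
import Cfsg.Agent.H376.SpEmb
import Cfsg.Agent.H813.SaxSpK
import Cfsg.Agent.H999.FxPSp
import Cfsg.Agent.Lib.FieldAutCard
import Cfsg.Agent.H388.Der.RowPSp
import Cfsg.Agent.ClassicalGeometry.SympBasic
import Cfsg.Agent.H503.El.O73
import Cfsg.Agent.LieClassical.FieldTransfer
import Cfsg.Agent.H44.Der.U43c
import Cfsg.Agent.S5785
import Cfsg.Agent.FastGrp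
import Cfsg.Agent.Prune
set_option linter.all false

section
prune_inst 0x7f00000000000000000000000000000000000000000000000000000000000000000000000000000000000000000000000000000000000000000000000000000000000000000000000000000000000000003fffffffffffffffffffffffffffbeffbdffbfffff

-- part: H901/Der/SpRow_mg
section
prune_inst 0x400000
set_option linter.all false
open scoped Cfsg.Agent.FastGrp

-- part: H901/Der/SpSemi
section
/-!
# Automorphisms of `PSp_2m(q)` and classes in a torus (helper901, for S3502 / S3500)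

* `semi` : every automorphism of `PSp_2m(q)`, `m ≥ 3`, comes from a semisimilarity
* `Rig A` : every power of `A` with an eigenvalue `±1` is central
* `class_bound` : an `Aut`-class meets `⟨A⟩` in at most `f * 2m` elements
* `scc_bound` : `SCC (PSp m F) v → c - c / v ≤ 4 * m * f`, `c` the order of `A` in `PSp`
-/

set_option autoImplicit false

namespace Cfsg.Agent.H901.Der

open Cfsg Subgroup Polynomial Cfsg.Agent.H439.Der
open Cfsg.Agent.ClassicalGeometry.SympAutSemi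
open scoped MatrixGroups Matrix

section semilin

variable {ι : Type} [Fintype ι] [DecidableEq ι] {F : Type*} [Field F]

theorem charpoly_semi {σ : F ≃+* F} {T : (ι → F) → (ι → F)} (hT : Function.Surjective T)
    (ha : ∀ u v, T (u + v) = T u + T v) (hs : ∀ (c : F) (v : ι → F), T (c • v) = σ c • T v)
    {A B : Matrix ι ι F} (h : ∀ v, B *ᵥ T v = T (A *ᵥ v)) : B.charpoly = A.charpoly.map (σ : F →+* F) := by
  let P : Matrix ι ι F := Matrix.of fun i j => T (Pi.single j 1) i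
  have hsum : ∀ (f : ι → (ι → F)), T (∑ j, f j) = ∑ j, T (f j) := by
    intro f
    let T' : (ι → F) →+ (ι → F) := AddMonoidHom.mk' T ha
    exact map_sum T' f _
  have hP : ∀ v : ι → F, T v = P *ᵥ (fun i => σ (v i)) := by
    intro v
    have h1 : v = ∑ j, v j • (Pi.single j (1 : F) : ι → F) := by
      ext i
      simp only [Finset.sum_apply, Pi.single_apply, _root_.Pi.smul_apply, _root_.smul_eq_mul, _root_.mul_ite, _root_.mul_one, _root_.MulZeroClass.mul_zero, _root_.Finset.sum_ite_eq, _root_.Finset.mem_univ, ↓ _root_.reduceIte]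
    conv_lhs => rw [h1]
    rw [hsum]
    ext i
    rw [Finset.sum_apply, Matrix.mulVec, dotProduct]
    refine Finset.sum_congr rfl fun j _ => ?_
    rw [hs, Pi.smul_apply, smul_eq_mul, mul_comm]
    rfl
  have hunit : IsUnit P := by
    rw [← Matrix.mulVec_surjective_iff_isUnit]
    intro y
    obtain ⟨v, rfl⟩ := hT y
    exact ⟨_, (hP v).symm⟩
  obtain ⟨U, hU⟩ := hunit
  have h2 : B * P = P * A.map σ := by
    apply Matrix.ext_of_mulVec_single
    intro j
    rw [← Matrix.mulVec_mulVec, ← Matrix.mulVec_mulVec]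
    have h3 : P *ᵥ (Pi.single j 1) = T (Pi.single j 1) := by
      rw [hP]
      congr 1
      ext i
      by_cases hij : i = j
      · subst hij; simp
      · simp [hij]
    rw [h3, h, hP]
    congr 1
    ext i
    simp [Matrix.mulVec_single]
  have h3 : B = (U : Matrix ι ι F) * A.map σ * ((U⁻¹ : (Matrix ι ι F)ˣ) : Matrix ι ι F) := by
    rw [hU, ← h2, ← hU, mul_assoc, Units.mul_inv, mul_one]
  rw [h3, Matrix.coe_units_inv, Matrix.charpoly_units_conj]
  exact Matrix.charpoly_map A (σ : F →+* F)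

end semilin

variable {F : Type} [Field F] {m : ℕ}

/-- every automorphism of `PSp_2m(q)`, `m ≥ 3`, comes from a semisimilarity -/
theorem semi [Finite F] (hm : 3 ≤ m) (α : MulAut (PSp m F)) :
    ∃ (σ : F ≃+* F) (μ : F) (T : Equiv.Perm (Fin m ⊕ Fin m → F)), μ ≠ 0 ∧ IsSemi T σ μ ∧
      ∀ A : Matrix.symplecticGroup (Fin m) F, ∃ B : Matrix.symplecticGroup (Fin m) F,
        (∀ v, (B : Matrix (Fin m ⊕ Fin m) (Fin m ⊕ Fin m) F) *ᵥ T v =
          T ((A : Matrix (Fin m ⊕ Fin m) (Fin m ⊕ Fin m) F) *ᵥ v)) ∧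
        α (QuotientGroup.mk A) = QuotientGroup.mk B := by
  obtain ⟨g, hg⟩ := Cfsg.Agent.ClassicalGeometry.SympAutExists.exists_semi (by omega) α
    (Cfsg.Agent.ClassicalGeometry.SympAutOddA.recog (by omega) (Or.inl hm) α)
  obtain ⟨σ, μ, hμ, hs⟩ := g.2
  refine ⟨σ, μ, g.1, hμ, hs, fun A => ⟨conjHom m F g A, fun v => ?_, ?_⟩⟩
  · rw [← rho_apply, rho_conjHom, Equiv.Perm.mul_apply, Equiv.Perm.mul_apply, perm_inv_apply_self, rho_apply]
  · rw [← hg, Psi_mk]

/-- every power of `A` with an eigenvalue `±1` is central -/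
def Rig (A : Matrix.symplecticGroup (Fin m) F) : Prop :=
  ∀ (k : ℕ) (c : F), c = 1 ∨ c = -1 → ∀ v : Fin m ⊕ Fin m → F, v ≠ 0 →
    ((A ^ k : Matrix.symplecticGroup (Fin m) F) : Matrix (Fin m ⊕ Fin m) (Fin m ⊕ Fin m) F) *ᵥ v = c • v →
    A ^ k ∈ center (Matrix.symplecticGroup (Fin m) F)

/-- an eigenvalue over an extension field which lies in `F` is an eigenvalue over `F` -/
theorem exists_vec {ι : Type} [Fintype ι] [DecidableEq ι] {K : Type*} [Field K] (i : F →+* K) (M : Matrix ι ι F) (c : F)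
    {w : ι → K} (hw : w ≠ 0) (h : (M.map i) *ᵥ w = i c • w) : ∃ v : ι → F, v ≠ 0 ∧ M *ᵥ v = c • v := by
  have h1 : ((M - Matrix.scalar ι c).map i).det = 0 := by
    rw [← Matrix.exists_mulVec_eq_zero_iff]
    refine ⟨w, hw, ?_⟩
    have h2 : (M - Matrix.scalar ι c).map i = M.map i - Matrix.scalar ι (i c) := by
      rw [Matrix.map_sub _ (map_sub i)]
      congr 1
      ext a b
      simp only [Matrix.scalar, Matrix.diagonal_apply, apply_ite i, _root_.Pi.constRingHom_eq_algebraMap, _root_.RingHom.coe_comp, _root_.Function.comp_apply, _root_.Matrix.diagonalRingHom_apply, _root_.Matrix.map_apply, _root_.Pi.algebraMap_apply, _root_.Algebra.algebraMap_self, _root_.RingHom.id_apply, _root_.map_zero, _root_.RingHomCompTriple.comp_apply]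
    rw [h2, Matrix.sub_mulVec, h, sub_eq_zero]
    ext a
    simp only [Matrix.scalar, Matrix.mulVec_diagonal, _root_.Pi.smul_apply, _root_.smul_eq_mul, _root_.Pi.constRingHom_eq_algebraMap, _root_.RingHom.coe_comp, _root_.Function.comp_apply, _root_.Matrix.diagonalRingHom_apply, _root_.Pi.algebraMap_apply, _root_.Algebra.algebraMap_self, _root_.RingHomCompTriple.comp_apply]
  have h3 : (M - Matrix.scalar ι c).det = 0 := by
    have h4 : i ((M - Matrix.scalar ι c).det) = 0 := by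
      rw [← h1]
      exact RingHom.map_det i _
    exact (map_eq_zero i).1 h4
  obtain ⟨v, hv, hv0⟩ := Matrix.exists_mulVec_eq_zero_iff.2 h3
  refine ⟨v, hv, ?_⟩
  rw [Matrix.sub_mulVec, sub_eq_zero] at hv0
  rw [hv0]
  ext a
  simp only [Matrix.scalar, Matrix.mulVec_diagonal, _root_.Pi.constRingHom_eq_algebraMap, _root_.RingHom.coe_comp, _root_.Function.comp_apply, _root_.Matrix.diagonalRingHom_apply, _root_.Pi.algebraMap_apply, _root_.Algebra.algebraMap_self, _root_.RingHom.id_apply, _root_.Pi.smul_apply, _root_.smul_eq_mul]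

theorem root_of_vec {ι : Type} [Fintype ι] [DecidableEq ι] {K : Type*} [Field K] (M : Matrix ι ι K) (c : K)
    {w : ι → K} (hw : w ≠ 0) (h : M *ᵥ w = c • w) : c ∈ M.charpoly.roots := by
  rw [mem_roots (Matrix.charpoly_monic M).ne_zero, IsRoot.def, Matrix.eval_charpoly]
  rw [← Matrix.exists_mulVec_eq_zero_iff]
  refine ⟨w, hw, ?_⟩
  rw [Matrix.sub_mulVec, h, sub_eq_zero]
  ext a
  simp only [Matrix.scalar, Matrix.mulVec_diagonal, _root_.Pi.constRingHom_eq_algebraMap, _root_.RingHom.coe_comp, _root_.Function.comp_apply, _root_.Matrix.diagonalRingHom_apply, _root_.Pi.algebraMap_apply, _root_.Algebra.algebraMap_self, _root_.RingHom.id_apply, _root_.Pi.smul_apply, _root_.smul_eq_mul]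

theorem exists_vec_alg {ι : Type} [Fintype ι] [DecidableEq ι] [Nonempty ι] {K : Type*} [Field K] [IsAlgClosed K]
    (M : Matrix ι ι K) : ∃ (c : K) (w : ι → K), w ≠ 0 ∧ M *ᵥ w = c • w := by
  obtain ⟨c, hc⟩ := IsAlgClosed.exists_root M.charpoly (by
    rw [Matrix.charpoly_degree_eq_dim]
    exact_mod_cast Fintype.card_ne_zero)
  rw [IsRoot.def, Matrix.eval_charpoly, ← Matrix.exists_mulVec_eq_zero_iff] at hc
  obtain ⟨w, hw, h⟩ := hc
  refine ⟨c, w, hw, ?_⟩
  rw [Matrix.sub_mulVec, sub_eq_zero] at h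
  rw [← h]
  ext a
  simp only [Matrix.scalar, Matrix.mulVec_diagonal, _root_.Pi.constRingHom_eq_algebraMap, _root_.RingHom.coe_comp, _root_.Function.comp_apply, _root_.Matrix.diagonalRingHom_apply, _root_.Pi.algebraMap_apply, _root_.Algebra.algebraMap_self, _root_.RingHom.id_apply, _root_.Pi.smul_apply, _root_.smul_eq_mul]

theorem class_bound [Fintype F] (hm : 3 ≤ m) {A : Matrix.symplecticGroup (Fin m) F} (hR : Rig A) (z0 : PSp m F) :
    Set.ncard {z : PSp m F | z ∈ zpowers (QuotientGroup.mk A : PSp m F) ∧ ∃ α : PSp m F ≃* PSp m F, α z0 = z} ≤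
      Nat.card (F ≃+* F) * (2 * m) := by
  classical
  let K := AlgebraicClosure F
  let i : F →+* K := algebraMap F K
  have hne : Nonempty (Fin m ⊕ Fin m) := ⟨Sum.inl ⟨0, by omega⟩⟩
  have hfin : Finite (F ≃+* F) := Finite.of_injective (fun f : F ≃+* F => (f : F → F)) DFunLike.coe_injective
  have hfa : Fintype (F ≃+* F) := Fintype.ofFinite _
  obtain ⟨η, w, hw, hη⟩ := exists_vec_alg ((A : Matrix (Fin m ⊕ Fin m) (Fin m ⊕ Fin m) F).map i)
  have hpow : ∀ k : ℕ, (((A ^ k : Matrix.symplecticGroup (Fin m) F) :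
      Matrix (Fin m ⊕ Fin m) (Fin m ⊕ Fin m) F).map i) *ᵥ w = η ^ k • w := by
    intro k
    induction k with
    | zero =>
      rw [pow_zero, pow_zero, one_smul]
      show ((1 : Matrix (Fin m ⊕ Fin m) (Fin m ⊕ Fin m) F).map i) *ᵥ w = w
      rw [Matrix.map_one _ (map_zero i) (map_one i), Matrix.one_mulVec]
    | succ n ih =>
      rw [pow_succ]
      show (((A ^ n : Matrix.symplecticGroup (Fin m) F) : Matrix (Fin m ⊕ Fin m) (Fin m ⊕ Fin m) F) *
        (A : Matrix (Fin m ⊕ Fin m) (Fin m ⊕ Fin m) F)).map i *ᵥ w = _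
      rw [Matrix.map_mul, ← Matrix.mulVec_mulVec, hη, Matrix.mulVec_smul, ih, smul_smul, pow_succ, mul_comm]
  have hη0 : η ≠ 0 := by
    rintro rfl
    have h1 := hpow (orderOf A)
    rw [pow_orderOf_eq_one, zero_pow (orderOf_pos A).ne', zero_smul] at h1
    apply hw
    rw [← h1]
    show w = ((1 : Matrix (Fin m ⊕ Fin m) (Fin m ⊕ Fin m) F).map i) *ᵥ w
    rw [Matrix.map_one _ (map_zero i) (map_one i), Matrix.one_mulVec]
  obtain ⟨C0, rfl⟩ := QuotientGroup.mk_surjective z0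
  let R : (F ≃+* F) → Finset K := fun σ =>
    (((C0 : Matrix (Fin m ⊕ Fin m) (Fin m ⊕ Fin m) F).charpoly.map (σ : F →+* F)).map i).roots.toFinset
  have hRc : ∀ σ, (R σ).card ≤ 2 * m := by
    intro σ
    refine (Multiset.toFinset_card_le _).trans ((card_roots' _).trans ?_)
    rw [natDegree_map, natDegree_map, Matrix.charpoly_natDegree_eq_dim, Fintype.card_sum, Fintype.card_fin]
    omega
  let t : Finset (Σ _ : F ≃+* F, K) := Finset.univ.sigma R
  have ht : t.card ≤ Nat.card (F ≃+* F) * (2 * m) := by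
    rw [Finset.card_sigma, Nat.card_eq_fintype_card]
    refine (Finset.sum_le_sum fun σ _ => hRc σ).trans ?_
    rw [Finset.sum_const, Finset.card_univ, smul_eq_mul]
  have key : ∀ z ∈ {z : PSp m F | z ∈ zpowers (QuotientGroup.mk A : PSp m F) ∧
      ∃ α : PSp m F ≃* PSp m F, α (QuotientGroup.mk C0) = z}, ∃ p : (Σ _ : F ≃+* F, K), p ∈ t ∧ ∃ (j : ℕ) (c : F),
        (c = 1 ∨ c = -1) ∧ z = QuotientGroup.mk (A ^ j) ∧ p.2 = i c * η ^ j := by
    rintro z ⟨hz, α, hα⟩
    have hz' : z ∈ Submonoid.powers (QuotientGroup.mk A : PSp m F) := mem_powers_iff_mem_zpowers.2 hz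
    obtain ⟨j, hj⟩ := hz'
    obtain ⟨σ, μ, T, hμ, hs, hB⟩ := semi hm α
    obtain ⟨B, hB1, hB2⟩ := hB C0
    have h1 : (QuotientGroup.mk B : PSp m F) = QuotientGroup.mk (A ^ j) := by
      rw [← hB2, hα, ← hj]
      rfl
    rw [QuotientGroup.eq] at h1
    have h2 := Cfsg.Agent.ClassicalGeometry.SympInvolutions.center_eq h1
    obtain ⟨c, hc, hcB⟩ : ∃ c : F, (c = 1 ∨ c = -1) ∧ (B : Matrix (Fin m ⊕ Fin m) (Fin m ⊕ Fin m) F) =
        c • ((A ^ j : Matrix.symplecticGroup (Fin m) F) : Matrix (Fin m ⊕ Fin m) (Fin m ⊕ Fin m) F) := by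
      have h3 : A ^ j = B * (B⁻¹ * A ^ j) := by group
      have h4 : ((A ^ j : Matrix.symplecticGroup (Fin m) F) : Matrix (Fin m ⊕ Fin m) (Fin m ⊕ Fin m) F) =
          (B : Matrix (Fin m ⊕ Fin m) (Fin m ⊕ Fin m) F) *
            ((B⁻¹ * A ^ j : Matrix.symplecticGroup (Fin m) F) : Matrix (Fin m ⊕ Fin m) (Fin m ⊕ Fin m) F) := by
        conv_lhs => rw [h3]
        rfl
      rcases h2 with h2 | h2
      · exact ⟨1, Or.inl rfl, by rw [h4, h2, mul_one, one_smul]⟩
      · exact ⟨-1, Or.inr rfl, by rw [h4, h2, mul_neg, mul_one, neg_smul, one_smul, neg_neg]⟩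
    refine ⟨⟨σ, i c * η ^ j⟩, ?_, j, c, hc, ?_, rfl⟩
    · simp only [t, Finset.mem_sigma, Finset.mem_univ, true_and, R, Multiset.mem_toFinset]
      have h5 : (B : Matrix (Fin m ⊕ Fin m) (Fin m ⊕ Fin m) F).charpoly =
          (C0 : Matrix (Fin m ⊕ Fin m) (Fin m ⊕ Fin m) F).charpoly.map (σ : F →+* F) :=
        charpoly_semi T.surjective hs.1 hs.2.1 hB1
      rw [← h5, ← Matrix.charpoly_map]
      refine root_of_vec _ _ hw ?_
      rw [hcB]
      have h6 : (c • ((A ^ j : Matrix.symplecticGroup (Fin m) F) :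
          Matrix (Fin m ⊕ Fin m) (Fin m ⊕ Fin m) F)).map i = i c • (((A ^ j : Matrix.symplecticGroup (Fin m) F) :
          Matrix (Fin m ⊕ Fin m) (Fin m ⊕ Fin m) F).map i) := by
        ext a b
        simp
      rw [h6, Matrix.smul_mulVec, hpow, smul_smul]
    · rw [← hj]
      rfl
  choose! g hg using key
  have hle := Set.ncard_le_ncard_of_injOn (s := {z : PSp m F | z ∈ zpowers (QuotientGroup.mk A : PSp m F) ∧
      ∃ α : PSp m F ≃* PSp m F, α (QuotientGroup.mk C0) = z}) (t := (t : Set (Σ _ : F ≃+* F, K))) g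
    (fun z hz => (hg z hz).1) ?_ (Finset.finite_toSet t)
  · rw [Set.ncard_coe_finset] at hle
    exact hle.trans ht
  · intro z hz z' hz' hzz
    obtain ⟨-, j, c, hc, hj, hp⟩ := hg z hz
    obtain ⟨-, j', c', hc', hj', hp'⟩ := hg z' hz'
    have h1 : i c * η ^ j = i c' * η ^ j' := by rw [← hp, ← hp', hzz]
    -- the symmetric step
    have step : ∀ {j j' : ℕ} {c c' : F}, (c = 1 ∨ c = -1) → (c' = 1 ∨ c' = -1) → j ≤ j' →
        i c * η ^ j = i c' * η ^ j' → (QuotientGroup.mk (A ^ j) : PSp m F) = QuotientGroup.mk (A ^ j') := by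
      intro j j' c c' hc hc' hjj h1
      obtain ⟨k, rfl⟩ := Nat.exists_eq_add_of_le hjj
      have h2 : η ^ k = i (c' * c) := by
        have h3 : i c = i c' * η ^ k := by
          have h4 : η ^ j ≠ 0 := pow_ne_zero _ hη0
          apply mul_right_cancel₀ h4
          rw [h1, pow_add]
          ring
        rw [map_mul, h3, ← mul_assoc, ← map_mul]
        have h5 : c' * c' = 1 := by rcases hc' with rfl | rfl <;> ring
        rw [h5, map_one, one_mul]
      have h3 := hpow k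
      rw [h2] at h3
      obtain ⟨v, hv, hv'⟩ := exists_vec i _ _ hw h3
      have h4 := hR k (c' * c) (by
        rcases hc with rfl | rfl <;> rcases hc' with rfl | rfl
        · left; ring
        · right; ring
        · right; ring
        · left; ring) v hv hv'
      rw [QuotientGroup.eq, pow_add, inv_mul_cancel_left]
      exact h4
    rw [hj, hj']
    rcases le_total j j' with h | h
    · exact step hc hc' h h1
    · exact (step hc' hc h h1.symm).symm

theorem ncard_pow_eq_one_le {G : Type*} [Group G] [Finite G] (a : G) {k : ℕ} (hk : 0 < k) :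
    Set.ncard {z : G | z ∈ zpowers a ∧ z ^ k = 1} ≤ k := by
  classical
  have hf : Fintype (zpowers a) := Fintype.ofFinite _
  have h1 := IsCyclic.card_pow_eq_one_le (α := zpowers a) hk
  have h2 : {z : G | z ∈ zpowers a ∧ z ^ k = 1} =
      Subtype.val '' {z : zpowers a | z ^ k = 1} := by
    ext z
    constructor
    · rintro ⟨hz, hz1⟩
      exact ⟨⟨z, hz⟩, Subtype.ext hz1, rfl⟩
    · rintro ⟨⟨z, hz⟩, hz1, rfl⟩
      exact ⟨hz, congrArg Subtype.val hz1⟩
  rw [h2]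
  refine (Set.ncard_image_le (Set.toFinite _)).trans (le_trans (le_of_eq ?_) h1)
  rw [← Set.ncard_coe_finset]
  congr 1
  ext z
  simp only [_root_.Set.mem_ofPred_eq, _root_.Finset.coe_filter, _root_.Finset.mem_univ, _root_.true_and]

/-- **The class count**: two `Aut`-classes of elements of order divisible by `v`. -/
theorem scc_bound [Fintype F] (hm : 3 ≤ m) {A : Matrix.symplecticGroup (Fin m) F} (hR : Rig A) {v c : ℕ}
    (hv : v.Prime) (hc : orderOf (QuotientGroup.mk A : PSp m F) = c) (hvc : v ∣ c) (h : SCC (PSp m F) v) :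
    c ≤ c / v + Nat.card (F ≃+* F) * (4 * m) := by
  classical
  have hfin : Finite (PSp m F) := Quotient.finite _
  obtain ⟨x, y, hxy⟩ := h
  set a : PSp m F := QuotientGroup.mk A with ha
  have hc0 : 0 < c := by rw [← hc]; exact orderOf_pos a
  obtain ⟨k, hk⟩ := hvc
  have hk0 : 0 < k := Nat.pos_of_ne_zero (by rintro rfl; omega)
  have hkc : c / v = k := by rw [hk, Nat.mul_div_cancel_left _ hv.pos]
  have hsub : ((zpowers a : Subgroup (PSp m F)) : Set (PSp m F)) ⊆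
      ({z : PSp m F | z ∈ zpowers a ∧ z ^ k = 1} ∪
        {z : PSp m F | z ∈ zpowers a ∧ ∃ α : PSp m F ≃* PSp m F, α x = z}) ∪
        {z : PSp m F | z ∈ zpowers a ∧ ∃ α : PSp m F ≃* PSp m F, α y = z} := by
    intro z hz
    by_cases hvz : v ∣ orderOf z
    · rcases hxy z hvz with h1 | h1
      · exact Or.inl (Or.inr ⟨hz, h1⟩)
      · exact Or.inr ⟨hz, h1⟩
    · refine Or.inl (Or.inl ⟨hz, ?_⟩)
      rw [← orderOf_dvd_iff_pow_eq_one]
      have h1 : orderOf z ∣ v * k := by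
        have h2 := Subgroup.orderOf_dvd_natCard _ hz
        rwa [Nat.card_zpowers, hc, hk] at h2
      exact (Nat.Coprime.dvd_of_dvd_mul_left ((hv.coprime_iff_not_dvd.2 hvz).symm) h1)
  have h1 := Set.ncard_le_ncard hsub (Set.toFinite _)
  have h2 := Set.ncard_union_le ({z : PSp m F | z ∈ zpowers a ∧ z ^ k = 1} ∪
        {z : PSp m F | z ∈ zpowers a ∧ ∃ α : PSp m F ≃* PSp m F, α x = z})
        {z : PSp m F | z ∈ zpowers a ∧ ∃ α : PSp m F ≃* PSp m F, α y = z}
  have h3 := Set.ncard_union_le {z : PSp m F | z ∈ zpowers a ∧ z ^ k = 1}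
        {z : PSp m F | z ∈ zpowers a ∧ ∃ α : PSp m F ≃* PSp m F, α x = z}
  have h4 := ncard_pow_eq_one_le a hk0
  have h5 : Set.ncard {z : PSp m F | z ∈ zpowers a ∧ ∃ α : PSp m F ≃* PSp m F, α x = z} ≤ _ := class_bound hm hR x
  have h6 : Set.ncard {z : PSp m F | z ∈ zpowers a ∧ ∃ α : PSp m F ≃* PSp m F, α y = z} ≤ _ := class_bound hm hR y
  have h7 : Set.ncard ((zpowers a : Subgroup (PSp m F)) : Set (PSp m F)) = c := by
    rw [← Nat.card_coe_set_eq, ← hc]
    exact Nat.card_zpowers a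
  rw [h7] at h1
  rw [hkc]
  have h8 : Nat.card (F ≃+* F) * (4 * m) = Nat.card (F ≃+* F) * (2 * m) + Nat.card (F ≃+* F) * (2 * m) := by ring
  omega

end Cfsg.Agent.H901.Der
end

-- part: H901/Der/SpTor
section
/-!
# Tori of `Sp_2m(q)` and `NTC` (helper901, for S3502 / S3500)

* `tor_minus` : an element of order `q ^ m + 1`, `Rig`
* `tor_plus` : an element of order `q ^ m - 1`, `Rig`
* `not_scc_tor` : `¬ SCC (PSp m F) v` for `v ≥ 7` dividing the order of such an element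
* `not_scc_block` : the primes dividing `|Sp_2k(q)|`, `k < m`
* `ntc` : `NTC (PSp m F)`, `m ≥ 3`, `(m, q) ≠ (3, 2), (3, 3), (4, 2)`
-/

set_option autoImplicit false

namespace Cfsg.Agent.H901.Der

open Cfsg Subgroup Cfsg.Agent.H439.Der Cfsg.Agent.H262.El
open scoped MatrixGroups Matrix

variable {F : Type} [Field F] {m : ℕ}

/-- `Sp_2m(q) → GL_2m(q)` -/
def gl (m : ℕ) (F : Type) [Field F] : Matrix.symplecticGroup (Fin m) F →* GL (Fin m ⊕ Fin m) F :=
  MonoidHom.toHomUnits (Matrix.symplecticGroup (Fin m) F).subtype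

theorem gl_injective : Function.Injective (gl m F) := fun A B h =>
  Subtype.ext (congrArg (fun g : GL (Fin m ⊕ Fin m) F => (g : Matrix (Fin m ⊕ Fin m) (Fin m ⊕ Fin m) F)) h)

theorem rig_of_irr {A y : Matrix.symplecticGroup (Fin m) F} (hc : Commute y A)
    (hirr : ∀ W : Submodule F (Fin m ⊕ Fin m → F),
      (∀ w ∈ W, (y : Matrix (Fin m ⊕ Fin m) (Fin m ⊕ Fin m) F) *ᵥ w ∈ W) → W = ⊥ ∨ W = ⊤) : Rig A := by
  intro k c _ v hv h
  let W : Submodule F (Fin m ⊕ Fin m → F) := LinearMap.ker (Matrix.mulVecLin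
    ((A ^ k : Matrix.symplecticGroup (Fin m) F) : Matrix (Fin m ⊕ Fin m) (Fin m ⊕ Fin m) F) - c • 1)
  have hW : ∀ w, w ∈ W ↔ ((A ^ k : Matrix.symplecticGroup (Fin m) F) :
      Matrix (Fin m ⊕ Fin m) (Fin m ⊕ Fin m) F) *ᵥ w = c • w := by
    intro w
    rw [LinearMap.mem_ker, LinearMap.sub_apply, sub_eq_zero]
    rfl
  have hcomm : (y : Matrix (Fin m ⊕ Fin m) (Fin m ⊕ Fin m) F) *
      ((A ^ k : Matrix.symplecticGroup (Fin m) F) : Matrix (Fin m ⊕ Fin m) (Fin m ⊕ Fin m) F) =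
      ((A ^ k : Matrix.symplecticGroup (Fin m) F) : Matrix (Fin m ⊕ Fin m) (Fin m ⊕ Fin m) F) * y :=
    congrArg Subtype.val (hc.pow_right k).eq
  rcases hirr W (fun w hw => by
    rw [hW] at hw ⊢
    rw [Matrix.mulVec_mulVec, ← hcomm, ← Matrix.mulVec_mulVec, hw, Matrix.mulVec_smul]) with h1 | h1
  · exfalso
    apply hv
    have h2 : v ∈ W := (hW v).2 h
    rwa [h1, Submodule.mem_bot] at h2
  · rw [LieClassical.SympCenter.mem_center_iff]
    refine ⟨c, ?_⟩
    apply Matrix.ext_of_mulVec_single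
    intro i
    rw [(hW _).1 (h1 ▸ Submodule.mem_top), Matrix.smul_mulVec, Matrix.one_mulVec]

/-- the torus of order `q ^ m + 1` -/
theorem tor_minus [Fintype F] (hm : m ≠ 0) {r : ℕ} (hr : Od (Fintype.card F) (2 * m) r) :
    ∃ A : Matrix.symplecticGroup (Fin m) F, orderOf A = Fintype.card F ^ m + 1 ∧ Rig A := by
  obtain ⟨A, hA⟩ := H376.SpEmb.exists_plus F m hm
  rw [Nat.card_eq_fintype_card] at hA
  have hq1 : 1 ≤ Fintype.card F := Fintype.card_pos
  have hrd : r ∣ Fintype.card F ^ m + 1 := by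
    have h1 : r ∣ Fintype.card F ^ (2 * m) - 1 := (hr.dvd_iff hq1 _).2 dvd_rfl
    have h2 : ¬ r ∣ Fintype.card F ^ m - 1 := by
      rw [hr.dvd_iff hq1]
      intro h
      have := Nat.le_of_dvd (Nat.pos_of_ne_zero hm) h
      omega
    have h3 : Fintype.card F ^ (2 * m) - 1 = (Fintype.card F ^ m + 1) * (Fintype.card F ^ m - 1) := by
      rw [mul_comm 2 m, pow_mul]
      have := Nat.sq_sub_sq (Fintype.card F ^ m) 1
      simpa only [_root_.one_pow] using this
    rw [h3] at h1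
    exact (hr.prime.dvd_mul.1 h1).resolve_right h2
  refine ⟨A, hA, ?_⟩
  obtain ⟨k, hk⟩ := hrd
  have hk0 : k ≠ 0 := by
    rintro rfl
    omega
  have ho : orderOf (A ^ k) = r := by
    rw [orderOf_pow' A hk0, hA, hk, Nat.gcd_mul_left_left]
    exact Nat.mul_div_cancel _ (Nat.pos_of_ne_zero hk0)
  refine rig_of_irr (y := A ^ k) ((Commute.refl A).pow_left k) ?_
  have hι : Fintype.card (Fin m ⊕ Fin m) = 2 * m := by
    rw [Fintype.card_sum, Fintype.card_fin]; omega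
  intro W hW
  refine irr_of_od (x := gl m F (A ^ k)) (by rw [hι]; exact hr) ?_ ?_ W hW
  · rw [← map_pow, ← ho, pow_orderOf_eq_one, map_one]
  · intro h
    have h1 : A ^ k = 1 := gl_injective (by rw [h, map_one])
    rw [h1, orderOf_one] at ho
    exact hr.prime.one_lt.ne ho

/-- the torus of order `q ^ m - 1` -/
theorem tor_plus [Fintype F] (hm : m ≠ 0) :
    ∃ A : Matrix.symplecticGroup (Fin m) F, orderOf A = Fintype.card F ^ m - 1 ∧ Rig A := by
  classical
  have : NeZero m := ⟨hm⟩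
  obtain ⟨p, hp⟩ := CharP.exists F
  have : Fact p.Prime := ⟨CharP.char_is_prime F p⟩
  let K := FiniteField.Extension F p m
  let b : Module.Basis (Fin m) F K := Module.finBasisOfFinrankEq F K (FiniteField.finrank_extension F p m)
  have hK : Nat.card K = Nat.card F ^ m := FiniteField.natCard_extension F p m
  have hKf : Finite K := by
    apply Nat.finite_of_card_ne_zero
    rw [hK]
    exact pow_ne_zero _ Nat.card_pos.ne'
  let f : Kˣ →* GL (Fin m) F := Units.map (Algebra.leftMulMatrix b : K →ₐ[F] Matrix (Fin m) (Fin m) F).toMonoidHom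
  have hf : ∀ u : Kˣ, ((f u : GL (Fin m) F) : Matrix (Fin m) (Fin m) F) = Algebra.leftMulMatrix b (u : K) := fun _ => rfl
  have hfi : Function.Injective f := by
    intro u w h
    apply Units.ext
    apply Algebra.leftMulMatrix_injective b
    rw [← hf, ← hf, h]
  obtain ⟨ω, hω⟩ := IsCyclic.exists_generator (α := Kˣ)
  have hoω : orderOf ω = Fintype.card F ^ m - 1 := by
    rw [orderOf_eq_card_of_forall_mem_zpowers hω, Nat.card_units, hK, Nat.card_eq_fintype_card]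
  refine ⟨H376.SpEmb.levi _ (f ω), ?_, ?_⟩
  · rw [orderOf_injective _ (H376.SpEmb.levi_injective _), orderOf_injective _ hfi, hoω]
  · intro k c hc v hv h
    have hA : ((H376.SpEmb.levi (F := F) (Fin m) (f ω)) ^ k) = H376.SpEmb.levi _ (f (ω ^ k)) := by
      rw [map_pow, map_pow]
    rw [hA] at h ⊢
    have hM : ((H376.SpEmb.levi (F := F) (Fin m) (f (ω ^ k)) : Matrix.symplecticGroup (Fin m) F) :
        Matrix (Fin m ⊕ Fin m) (Fin m ⊕ Fin m) F) =
        Matrix.fromBlocks (Algebra.leftMulMatrix b ((ω ^ k : Kˣ) : K)) 0 0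
          (Algebra.leftMulMatrix b (((ω ^ k)⁻¹ : Kˣ) : K))ᵀ := by
      show Matrix.fromBlocks (f (ω ^ k)).1 0 0 ((f (ω ^ k))⁻¹).1ᵀ = _
      rw [← map_inv]
      rfl
    have hcc : c * c = 1 := by rcases hc with rfl | rfl <;> ring
    -- a matrix of `K` with an eigenvalue in `F` is scalar
    have key : ∀ (a : K) (c : F) (x : Fin m → F), x ≠ 0 → (Algebra.leftMulMatrix b a) *ᵥ x = c • x →
        a = algebraMap F K c := by
      intro a c x hx hax
      by_contra hne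
      have h1 : a - algebraMap F K c ≠ 0 := sub_ne_zero.2 hne
      have h2 : Algebra.leftMulMatrix b (a - algebraMap F K c)⁻¹ *ᵥ
          (Algebra.leftMulMatrix b (a - algebraMap F K c) *ᵥ x) = x := by
        rw [Matrix.mulVec_mulVec, ← map_mul, inv_mul_cancel₀ h1, map_one, Matrix.one_mulVec]
      apply hx
      rw [← h2, map_sub, Matrix.sub_mulVec, hax, AlgHom.commutes]
      rw [Matrix.algebraMap_eq_diagonal]
      have h3 : Matrix.diagonal (algebraMap F (Fin m → F) c) *ᵥ x = c • x := by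
        ext i
        rw [Matrix.mulVec_diagonal]
        rfl
      rw [h3, sub_self, Matrix.mulVec_zero]
    have hωk : ((ω ^ k : Kˣ) : K) = algebraMap F K c := by
      rw [hM] at h
      obtain ⟨x, y, rfl⟩ : ∃ x y : Fin m → F, v = Sum.elim x y :=
        ⟨v ∘ Sum.inl, v ∘ Sum.inr, (Sum.elim_comp_inl_inr v).symm⟩
      rw [Matrix.fromBlocks_mulVec] at h
      simp only [Sum.elim_comp_inl, Sum.elim_comp_inr, Matrix.zero_mulVec, add_zero, zero_add] at h
      have hx : Algebra.leftMulMatrix b ((ω ^ k : Kˣ) : K) *ᵥ x = c • x := by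
        ext i
        exact congrFun h (Sum.inl i)
      have hy : (Algebra.leftMulMatrix b (((ω ^ k)⁻¹ : Kˣ) : K))ᵀ *ᵥ y = c • y := by
        ext i
        exact congrFun h (Sum.inr i)
      by_cases hx0 : x = 0
      · have hy0 : y ≠ 0 := by
          rintro rfl
          apply hv
          rw [hx0]
          ext i
          rcases i with i | i <;> rfl
        -- transpose
        have h4 : ((Algebra.leftMulMatrix b (((ω ^ k)⁻¹ : Kˣ) : K)) - Matrix.scalar (Fin m) c)ᵀ.det = 0 := by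
          rw [← Matrix.exists_mulVec_eq_zero_iff]
          refine ⟨y, hy0, ?_⟩
          rw [Matrix.transpose_sub, Matrix.sub_mulVec, hy, sub_eq_zero]
          ext a
          simp only [Matrix.scalar, Matrix.mulVec_diagonal, _root_.Pi.smul_apply, _root_.smul_eq_mul, _root_.Pi.constRingHom_eq_algebraMap, _root_.RingHom.coe_comp, _root_.Function.comp_apply, _root_.Matrix.diagonalRingHom_apply, _root_.Matrix.diagonal_transpose, _root_.Pi.algebraMap_apply, _root_.Algebra.algebraMap_self, _root_.RingHom.id_apply]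
        rw [Matrix.det_transpose, ← Matrix.exists_mulVec_eq_zero_iff] at h4
        obtain ⟨x', hx', hx2⟩ := h4
        have h5 := key (((ω ^ k)⁻¹ : Kˣ) : K) c x' hx' (by
          rw [Matrix.sub_mulVec, sub_eq_zero] at hx2
          rw [hx2]
          ext a
          simp only [Matrix.scalar, Matrix.mulVec_diagonal, _root_.Pi.constRingHom_eq_algebraMap, _root_.RingHom.coe_comp, _root_.Function.comp_apply, _root_.Matrix.diagonalRingHom_apply, _root_.Pi.algebraMap_apply, _root_.Algebra.algebraMap_self, _root_.RingHom.id_apply, _root_.Pi.smul_apply, _root_.smul_eq_mul])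
        rw [Units.val_inv_eq_inv_val] at h5
        rw [← inv_inv ((ω ^ k : Kˣ) : K), h5, ← map_inv₀]
        congr 1
        exact inv_eq_of_mul_eq_one_left hcc
      · exact key _ c x hx0 hx
    rw [LieClassical.SympCenter.mem_center_iff]
    refine ⟨c, ?_⟩
    rw [hM, hωk, Units.val_inv_eq_inv_val, hωk, ← map_inv₀, inv_eq_of_mul_eq_one_left hcc, AlgHom.commutes]
    rw [Matrix.algebraMap_eq_diagonal, Matrix.diagonal_transpose]
    ext i j
    rcases i with i | i <;> rcases j with j | j <;>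
      simp [Matrix.diagonal_apply, Matrix.one_apply]

end Cfsg.Agent.H901.Der
end

-- part: H901/Der/SpNtc
section
/-!
# `NTC (PSp_2m(q))` (helper901, for S3502)

* `not_scc_tor` : `¬ SCC (PSp m F) v` for `v ≥ 7` dividing the order of a rigid element
* `not_scc_block` : the primes dividing `|Sp_2k(q)|`, `k < m`
* `ntc` : `NTC (PSp m F)`, `m ≥ 3`, `(m, q) ≠ (3, 2), (3, 3), (4, 2)`
-/

set_option autoImplicit false

namespace Cfsg.Agent.H901.Der

open Cfsg Subgroup Cfsg.Agent.H439.Der Cfsg.Agent.H262.El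
open scoped MatrixGroups Matrix

variable {F : Type} [Field F] {m : ℕ}

/-- orders in `PSp` -/
theorem dvd_two_mul_orderOf_mk [Finite F] (A : Matrix.symplecticGroup (Fin m) F) :
    orderOf A ∣ 2 * orderOf (QuotientGroup.mk A : PSp m F) := by
  apply orderOf_dvd_of_pow_eq_one
  rw [mul_comm, pow_mul]
  apply H376.SpEmb.center_pow
  rw [← QuotientGroup.eq_one_iff]
  show (QuotientGroup.mk A : PSp m F) ^ _ = 1
  exact pow_orderOf_eq_one _

theorem orderOf_mk_even [Finite F] (h2 : (2 : F) = 0) (A : Matrix.symplecticGroup (Fin m) F) :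
    orderOf (QuotientGroup.mk A : PSp m F) = orderOf A := by
  apply Nat.dvd_antisymm (orderOf_map_dvd (QuotientGroup.mk' _) A)
  apply orderOf_dvd_of_pow_eq_one
  have h1 : A ^ orderOf (QuotientGroup.mk A : PSp m F) ∈ center (Matrix.symplecticGroup (Fin m) F) := by
    rw [← QuotientGroup.eq_one_iff]
    show (QuotientGroup.mk A : PSp m F) ^ _ = 1
    exact pow_orderOf_eq_one _
  refine Subtype.ext (?_ : ((A ^ orderOf (QuotientGroup.mk A : PSp m F) : Matrix.symplecticGroup (Fin m) F) :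
    Matrix (Fin m ⊕ Fin m) (Fin m ⊕ Fin m) F) = 1)
  rcases Cfsg.Agent.ClassicalGeometry.SympInvolutions.center_eq h1 with h | h
  · exact h
  · rw [h]
    have h3 : (1 : F) + 1 = 0 := by rw [one_add_one_eq_two]; exact h2
    have h4 : (-1 : F) = 1 := neg_eq_of_add_eq_zero_left h3
    ext i j
    rw [Matrix.neg_apply, Matrix.one_apply]
    split_ifs
    · exact h4
    · exact neg_zero

theorem pow_even {n : ℕ} (hn : 5 ≤ n) : 14 * n < 3 * (2 ^ n - 1) := by
  induction n, hn using Nat.le_induction with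
  | base => norm_num
  | succ n hn ih => rw [pow_succ]; omega

theorem pow_odd {n : ℕ} (hn : 4 ≤ n) : 28 * n < 3 * (3 ^ n - 1) := by
  induction n, hn using Nat.le_induction with
  | base => norm_num
  | succ n hn ih => rw [pow_succ]; omega

theorem pow_five {n : ℕ} (hn : 3 ≤ n) : 28 * n < 3 * (5 ^ n - 1) := by
  induction n, hn using Nat.le_induction with
  | base => norm_num
  | succ n hn ih => rw [pow_succ]; omega

/-- **rigid elements of order at least `q ^ m - 1`** -/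
theorem not_scc_tor [Fintype F] (hm : 3 ≤ m) (h32 : ¬ (m = 3 ∧ Fintype.card F = 2))
    (h42 : ¬ (m = 4 ∧ Fintype.card F = 2)) (h33 : ¬ (m = 3 ∧ Fintype.card F = 3))
    {A : Matrix.symplecticGroup (Fin m) F} (hR : Rig A) (hN : Fintype.card F ^ m - 1 ≤ orderOf A) {v : ℕ}
    (hv : v.Prime) (hv7 : 7 ≤ v) (hvN : v ∣ orderOf A) : ¬ SCC (PSp m F) v := by
  intro h
  obtain ⟨c, hc⟩ : ∃ c, c = orderOf (QuotientGroup.mk A : PSp m F) := ⟨_, rfl⟩
  have h2c := dvd_two_mul_orderOf_mk A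
  rw [← hc] at h2c
  have hvc : v ∣ c := by
    rcases hv.dvd_mul.1 (hvN.trans h2c) with h1 | h1
    · have := Nat.le_of_dvd (by norm_num) h1
      omega
    · exact h1
  have hb := scc_bound hm hR hv hc.symm hvc h
  obtain ⟨p, hp⟩ := CharP.exists F
  have hpp : p.Prime := CharP.char_is_prime F p
  have := Fact.mk hpp
  obtain ⟨f, -, hf⟩ := FiniteField.card F p
  rw [Lib.FieldAutCard.card_ringAut f.pos hf] at hb
  have hf1 : 1 ≤ (f : ℕ) := f.pos
  have hc0 : 0 < c := by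
    have hfin : Finite (PSp m F) := Quotient.finite _
    rw [hc]; exact orderOf_pos _
  have h7 : c / v ≤ c / 7 := Nat.div_le_div_left hv7 (by norm_num)
  obtain ⟨n, hn⟩ : ∃ n : ℕ, n = (f : ℕ) * m := ⟨_, rfl⟩
  have hn3 : 3 ≤ n := by
    rw [hn]; exact hm.trans (Nat.le_mul_of_pos_left _ hf1)
  have hnn : (f : ℕ) * (4 * m) = 4 * n := by rw [hn]; ring
  rw [hnn] at hb
  have hqm : Fintype.card F ^ m = p ^ n := by rw [hf, ← pow_mul, hn]
  rcases hpp.eq_two_or_odd with h2 | hodd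
  · subst h2
    have h20 : (2 : F) = 0 := by exact_mod_cast CharP.cast_eq_zero F 2
    rw [orderOf_mk_even h20] at hc
    rw [hqm, ← hc] at hN
    have hn5 : 5 ≤ n := by
      by_contra hlt
      rcases Nat.lt_or_ge (f : ℕ) 2 with h1 | h1
      · have hf1' : (f : ℕ) = 1 := by omega
        rw [hf1', one_mul] at hn
        rw [hf1', pow_one] at hf
        rcases (show m = 3 ∨ m = 4 by omega) with h3 | h3
        · exact h32 ⟨h3, hf⟩
        · exact h42 ⟨h3, hf⟩
      · have := Nat.mul_le_mul h1 hm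
        omega
    have := pow_even hn5
    have h1 : 1 ≤ 2 ^ n := Nat.one_le_two_pow
    omega
  · have hp3 : 3 ≤ p := by have := hpp.two_le; omega
    have hle : p ^ n - 1 ≤ 2 * c := by
      rw [← hqm]
      exact hN.trans (Nat.le_of_dvd (by omega) h2c)
    rcases Nat.lt_or_ge p 5 with h5 | h5
    · have hp3' : p = 3 := by
        rcases (show p = 3 ∨ p = 4 by omega) with h | h
        · exact h
        · subst h; exact absurd hpp (by norm_num)
      subst hp3'
      have hn4 : 4 ≤ n := by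
        by_contra hlt
        have hf1' : (f : ℕ) = 1 := by
          by_contra hne
          have := Nat.mul_le_mul (show 2 ≤ (f : ℕ) by omega) hm
          omega
        rw [hf1', one_mul] at hn
        rw [hf1', pow_one] at hf
        exact h33 ⟨by omega, hf⟩
      have := pow_odd hn4
      omega
    · have h6 : 5 ^ n ≤ p ^ n := Nat.pow_le_pow_left h5 n
      have := pow_five hn3
      (clear * - h7 hb hle h6 this; omega)

theorem not_scc_of_orders' {T : Type*} [Group T] {v s t : ℕ} {x a b : T} (hv : v.Prime) (hs : s.Prime) (ht : t.Prime)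
    (hvs : v ≠ s) (hvt : v ≠ t) (hst : s ≠ t) (hx : orderOf x = v) (ha : orderOf a = s) (hb : orderOf b = t)
    (hxa : Commute x a) (hxb : Commute x b) : ¬ SCC T v := by
  have h1 : orderOf (x * a) = v * s := by
    rw [hxa.orderOf_mul_eq_mul_orderOf_of_coprime, hx, ha]
    rw [hx, ha]; exact (Nat.coprime_primes hv hs).2 hvs
  have h2 : orderOf (x * b) = v * t := by
    rw [hxb.orderOf_mul_eq_mul_orderOf_of_coprime, hx, hb]
    rw [hx, hb]; exact (Nat.coprime_primes hv ht).2 hvt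
  have hv0 := hv.pos
  refine not_SCC_of_orders (x := x) (y := x * a) (z := x * b) (by rw [hx]) (by rw [h1]; exact dvd_mul_right _ _)
    (by rw [h2]; exact dvd_mul_right _ _) ?_ ?_ ?_
  · rw [hx, h1]
    intro h
    have h3 : v * 1 = v * s := by omega
    exact hs.one_lt.ne (Nat.eq_of_mul_eq_mul_left hv0 h3)
  · rw [hx, h2]
    intro h
    have h3 : v * 1 = v * t := by omega
    exact ht.one_lt.ne (Nat.eq_of_mul_eq_mul_left hv0 h3)
  · rw [h1, h2]
    intro h
    exact hst (Nat.eq_of_mul_eq_mul_left hv0 h)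

/-- **blocks** -/
theorem not_scc_block [Fintype F] {k l v s t : ℕ} (hk : 1 ≤ k) (hl : 1 ≤ l) (hv : v.Prime) (hs : s.Prime)
    (ht : t.Prime) (hvs : v ≠ s) (hvt : v ≠ t) (hst : s ≠ t) (h1 : v ∣ Nat.card (Matrix.symplecticGroup (Fin k) F))
    (h2 : s ∣ Nat.card (Matrix.symplecticGroup (Fin l) F)) (h3 : t ∣ Nat.card (Matrix.symplecticGroup (Fin l) F)) :
    ¬ SCC (PSp (k + l) F) v := by
  have := Fact.mk hv
  have := Fact.mk hs
  have := Fact.mk ht
  obtain ⟨x, hx⟩ := exists_prime_orderOf_dvd_card' v h1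
  obtain ⟨a, ha⟩ := exists_prime_orderOf_dvd_card' s h2
  obtain ⟨b, hb⟩ := exists_prime_orderOf_dvd_card' t h3
  refine not_scc_of_orders' (x := H999.FxPSp.i1 k l F x) (a := H999.FxPSp.i2 k l F a) (b := H999.FxPSp.i2 k l F b)
    hv hs ht hvs hvt hst ?_ ?_ ?_ ?_ ?_
  · rw [orderOf_injective _ (H999.FxPSp.i1_injective hl), hx]
  · rw [orderOf_injective _ (H999.FxPSp.i2_injective hk), ha]
  · rw [orderOf_injective _ (H999.FxPSp.i2_injective hk), hb]
  · exact (H999.FxPSp.i_comm x a).symm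
  · exact (H999.FxPSp.i_comm x b).symm

theorem card_sp [Fintype F] (k : ℕ) : Nat.card (Matrix.symplecticGroup (Fin k) F) =
    Fintype.card F ^ (k ^ 2) * ∏ i ∈ Finset.range k, (Fintype.card F ^ (2 * (i + 1)) - 1) :=
  LieClassical.SympCount.card_symplecticGroup k

theorem dvd_card_sp [Fintype F] {k j v : ℕ} (hj : 1 ≤ j) (hjk : j ≤ k) (h : v ∣ Fintype.card F ^ (2 * j) - 1) :
    v ∣ Nat.card (Matrix.symplecticGroup (Fin k) F) := by
  rw [card_sp]
  refine Dvd.dvd.mul_left ?_ _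
  refine h.trans ?_
  have h1 := Finset.dvd_prod_of_mem (fun i => Fintype.card F ^ (2 * (i + 1)) - 1)
    (Finset.mem_range.2 (show j - 1 < k by omega))
  simpa only [show j - 1 + 1 = j by omega] using h1

theorem dvd_card_sp_q [Fintype F] {k v : ℕ} (hk : 1 ≤ k) (h : v ∣ Fintype.card F) :
    v ∣ Nat.card (Matrix.symplecticGroup (Fin k) F) := by
  rw [card_sp]
  exact Dvd.dvd.mul_right (h.trans (dvd_pow_self _ (by positivity))) _

theorem z2 : ∀ x : ZMod 2, x ≠ 0 → x ^ 2 = 1 := by decide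

theorem z3 : ∀ x : ZMod 3, x ≠ 0 → x ^ 2 = 1 := by decide

theorem z5 : ∀ x : ZMod 5, x ≠ 0 → x ^ 4 = 1 := by decide

theorem two_three [Fintype F] {k s : ℕ} (hk : 1 ≤ k) (hs : s = 2 ∨ s = 3) :
    s ∣ Nat.card (Matrix.symplecticGroup (Fin k) F) := by
  have hsp : s.Prime := by rcases hs with rfl | rfl <;> norm_num
  have := Fact.mk hsp
  by_cases h : s ∣ Fintype.card F
  · exact dvd_card_sp_q hk h
  · refine dvd_card_sp (j := 1) le_rfl hk ?_
    have h1 : ((Fintype.card F : ℕ) : ZMod s) ≠ 0 := by rwa [Ne, ZMod.natCast_eq_zero_iff]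
    have h2 : ((Fintype.card F : ℕ) : ZMod s) ^ 2 = 1 := by
      rcases hs with rfl | rfl
      · exact z2 _ h1
      · exact z3 _ h1
    rw [← ZMod.natCast_eq_zero_iff, Nat.cast_sub (Nat.one_le_pow _ _ Fintype.card_pos)]
    push_cast
    rw [h2, sub_self]

theorem five [Fintype F] {k : ℕ} (hk : 2 ≤ k) : 5 ∣ Nat.card (Matrix.symplecticGroup (Fin k) F) := by
  have := Fact.mk (show Nat.Prime 5 by norm_num)
  by_cases h : 5 ∣ Fintype.card F
  · exact dvd_card_sp_q (by omega) h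
  · refine dvd_card_sp (j := 2) (by norm_num) hk ?_
    have h1 : ((Fintype.card F : ℕ) : ZMod 5) ≠ 0 := by rwa [Ne, ZMod.natCast_eq_zero_iff]
    have h2 : ((Fintype.card F : ℕ) : ZMod 5) ^ 4 = 1 := z5 _ h1
    rw [← ZMod.natCast_eq_zero_iff, Nat.cast_sub (Nat.one_le_pow _ _ Fintype.card_pos)]
    push_cast
    rw [h2, sub_self]

/-- primes dividing `|Sp_2(m-1)(q)|` -/
theorem not_scc_small [Fintype F] (hm : 3 ≤ m) {v : ℕ} (hv : v.Prime)
    (h : v ∣ Nat.card (Matrix.symplecticGroup (Fin (m - 1)) F)) : ¬ SCC (PSp m F) v := by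
  by_cases h1 : v ∣ Nat.card (Matrix.symplecticGroup (Fin 1) F)
  · obtain ⟨l, rfl⟩ : ∃ l, m = 1 + l := ⟨m - 1, by omega⟩
    have hl : 2 ≤ l := by omega
    by_cases h2 : v = 2
    · subst h2
      exact not_scc_block (s := 3) (t := 5) le_rfl (by omega) hv (by norm_num) (by norm_num) (by norm_num) (by norm_num)
        (by norm_num) h1 (two_three (by omega) (Or.inr rfl)) (five hl)
    by_cases h3 : v = 3
    · subst h3
      exact not_scc_block (s := 2) (t := 5) le_rfl (by omega) hv (by norm_num) (by norm_num) (by norm_num) (by norm_num)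
        (by norm_num) h1 (two_three (by omega) (Or.inl rfl)) (five hl)
    · exact not_scc_block (s := 2) (t := 3) le_rfl (by omega) hv (by norm_num) (by norm_num) h2 h3
        (by norm_num) h1 (two_three (by omega) (Or.inl rfl)) (two_three (by omega) (Or.inr rfl))
  · obtain ⟨k, rfl⟩ : ∃ k, m = k + 1 := ⟨m - 1, by omega⟩
    rw [Nat.add_sub_cancel] at h
    have h2 : v ≠ 2 := by
      rintro rfl
      exact h1 (two_three le_rfl (Or.inl rfl))
    have h3 : v ≠ 3 := by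
      rintro rfl
      exact h1 (two_three le_rfl (Or.inr rfl))
    exact not_scc_block (s := 2) (t := 3) (by omega) le_rfl hv (by norm_num) (by norm_num) h2 h3
      (by norm_num) h (two_three (by omega) (Or.inl rfl)) (two_three (by omega) (Or.inr rfl))

/-- the other primes -/
theorem big_prime [Fintype F] (hm : 3 ≤ m) {v : ℕ} (hv : v.Prime)
    (hd : v ∣ Nat.card (Matrix.symplecticGroup (Fin m) F))
    (h : ¬ v ∣ Nat.card (Matrix.symplecticGroup (Fin (m - 1)) F)) :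
    7 ≤ v ∧ (Od (Fintype.card F) (2 * m) v ∨ (Odd m ∧ Od (Fintype.card F) m v)) := by
  have := Fact.mk hv
  have hq : ¬ v ∣ Fintype.card F := fun h1 => h (dvd_card_sp_q (by omega) h1)
  have h2 : v ≠ 2 := by
    rintro rfl
    exact h (two_three (by omega) (Or.inl rfl))
  have hj : ∀ j, 1 ≤ j → j < m → ¬ v ∣ Fintype.card F ^ (2 * j) - 1 := fun j h1 h2 h3 =>
    h (dvd_card_sp h1 (by omega) h3)
  have hdm : v ∣ Fintype.card F ^ (2 * m) - 1 := by
    rw [card_sp] at hd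
    rcases hv.dvd_mul.1 hd with h1 | h1
    · exact absurd (hv.dvd_of_dvd_pow h1) hq
    · obtain ⟨i, hi, h3⟩ := (hv.prime.dvd_finsetProd_iff _).1 h1
      have hi' := Finset.mem_range.1 hi
      by_cases h4 : i + 1 = m
      · rwa [h4] at h3
      · exact absurd h3 (hj (i + 1) (by omega) (by omega))
  have hOd : Od (Fintype.card F) (orderOf ((Fintype.card F : ℕ) : ZMod v)) v := ⟨hv, rfl, hq⟩
  obtain ⟨e, he⟩ : ∃ e, e = orderOf ((Fintype.card F : ℕ) : ZMod v) := ⟨_, rfl⟩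
  rw [← he] at hOd
  have he0 : 0 < e := hOd.pos
  have hq1 : 1 ≤ Fintype.card F := Fintype.card_pos
  have hem : e ∣ 2 * m := (hOd.dvd_iff hq1 _).1 hdm
  have hpred := hOd.dvd_pred
  have hvodd : Odd v := hv.odd_of_ne_two h2
  by_cases h2m : e = 2 * m
  · subst h2m
    have := hOd.lt
    exact ⟨by omega, Or.inl hOd⟩
  · have hodd : Odd e := by
      rw [← Nat.not_even_iff_odd]
      rintro ⟨j, hj'⟩
      have h3 := Nat.le_of_dvd (by omega) hem
      exact hj j (by omega) (by omega) ((hOd.dvd_iff hq1 _).2 (by rw [hj', two_mul]))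
    have h3 : e ∣ m := (Nat.Coprime.dvd_of_dvd_mul_left (Nat.Coprime.symm (Nat.coprime_two_left.2 hodd)) hem)
    have h4 : e = m := by
      by_contra hne
      have h5 := Nat.le_of_dvd (by omega) h3
      exact hj e he0 (by omega) ((hOd.dvd_iff hq1 _).2 (Dvd.intro_left 2 rfl))
    subst h4
    refine ⟨?_, Or.inr ⟨hodd, hOd⟩⟩
    have h5 : 2 * e ∣ v - 1 := by
      apply Nat.Coprime.mul_dvd_of_dvd_of_dvd (Nat.coprime_two_left.2 hodd) _ hpred
      obtain ⟨j, hj'⟩ := hvodd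
      exact ⟨j, by omega⟩
    have := Nat.le_of_dvd (by have := hv.two_le; omega) h5
    omega

/-- **`NTC (PSp_2m(q))`**, `m ≥ 3`, `(m, q) ≠ (3, 2), (3, 3), (4, 2)` -/
theorem ntc [Fintype F] (hm : 3 ≤ m) (h32 : ¬ (m = 3 ∧ Fintype.card F = 2))
    (h42 : ¬ (m = 4 ∧ Fintype.card F = 2)) (h33 : ¬ (m = 3 ∧ Fintype.card F = 3)) : NTC (PSp m F) := by
  intro v hv hd
  have hd' : v ∣ Nat.card (Matrix.symplecticGroup (Fin m) F) :=
    hd.trans (Subgroup.card_quotient_dvd_card _)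
  by_cases h : v ∣ Nat.card (Matrix.symplecticGroup (Fin (m - 1)) F)
  · exact not_scc_small hm hv h
  obtain ⟨h7, h1 | ⟨hodd, h1⟩⟩ := big_prime hm hv hd' h
  · obtain ⟨A, hA, hR⟩ := tor_minus (F := F) (m := m) (by omega) h1
    refine not_scc_tor hm h32 h42 h33 hR (by rw [hA]; omega) hv h7 ?_
    rw [hA]
    have hq1 : 1 ≤ Fintype.card F := Fintype.card_pos
    have h3 : v ∣ Fintype.card F ^ (2 * m) - 1 := (h1.dvd_iff hq1 _).2 dvd_rfl
    have h4 : ¬ v ∣ Fintype.card F ^ m - 1 := by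
      rw [h1.dvd_iff hq1]
      intro h5
      have := Nat.le_of_dvd (by omega) h5
      omega
    have h5 : Fintype.card F ^ (2 * m) - 1 = (Fintype.card F ^ m + 1) * (Fintype.card F ^ m - 1) := by
      rw [mul_comm 2 m, pow_mul]
      have := Nat.sq_sub_sq (Fintype.card F ^ m) 1
      simpa only [_root_.one_pow] using this
    rw [h5] at h3
    exact (hv.dvd_mul.1 h3).resolve_right h4
  · obtain ⟨A, hA, hR⟩ := tor_plus (F := F) (m := m) (by omega)
    refine not_scc_tor hm h32 h42 h33 hR (by rw [hA]) hv h7 ?_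
    rw [hA]
    exact (h1.dvd_iff Fintype.card_pos _).2 dvd_rfl

end Cfsg.Agent.H901.Der
end

-- part: H901/Der/SpThree
section
/-!
# Three missing classes in `PSp_4k(q)` (helper901, for S3502)
-/

set_option autoImplicit false

namespace Cfsg.Agent.H901.Der

open Cfsg Cfsg.Geo Subgroup Cfsg.Agent.H439.Der Cfsg.Agent.H262.El Cfsg.Agent.H388.Der Cfsg.Agent.H343.Blk
open Cfsg.Agent.H876
open scoped MatrixGroups Matrix

/-- a missing element and two elements of its centralizer -/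
theorem three_of_missing {T : Type*} [Group T] [Finite T] {R : Subgroup T} {x a b : T}
    (hm : ∀ φ : T ≃* T, φ x ∉ R) (ha : Commute x a) (hb : Commute x b)
    (hca : (orderOf x).Coprime (orderOf a)) (hcb : (orderOf x).Coprime (orderOf b))
    (h1 : orderOf a ≠ 1) (h2 : orderOf b ≠ 1) (hab : orderOf a ≠ orderOf b) : Three T R := by
  have key : ∀ {a : T}, Commute x a → (orderOf x).Coprime (orderOf a) → ∀ φ : T ≃* T, φ (x * a) ∉ R := by
    intro a ha hca φ hφ
    obtain ⟨k, hk1, hk2⟩ := Nat.chineseRemainder hca 1 0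
    apply hm φ
    have h3 : (x * a) ^ k = x := by
      rw [ha.mul_pow]
      have h4 : x ^ k = x := by
        conv_rhs => rw [← pow_one x]
        exact pow_eq_pow_iff_modEq.2 hk1
      have h5 : a ^ k = 1 := by
        rw [← pow_zero a]
        exact pow_eq_pow_iff_modEq.2 hk2
      rw [h4, h5, mul_one]
    rw [← h3, map_pow]
    exact R.pow_mem hφ k
  have hoa : orderOf (x * a) = orderOf x * orderOf a := ha.orderOf_mul_eq_mul_orderOf_of_coprime hca
  have hob : orderOf (x * b) = orderOf x * orderOf b := hb.orderOf_mul_eq_mul_orderOf_of_coprime hcb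
  have hx := orderOf_pos x
  refine ⟨x, x * a, x * b, hm, key ha hca, key hb hcb, fun φ hφ => ?_, fun φ hφ => ?_, fun φ hφ => ?_⟩
  · have h3 : orderOf x = orderOf x * orderOf a := by rw [← hoa, ← hφ, MulEquiv.orderOf_eq]
    exact h1 (Nat.eq_of_mul_eq_mul_left hx (by omega))
  · have h3 : orderOf x = orderOf x * orderOf b := by rw [← hob, ← hφ, MulEquiv.orderOf_eq]
    exact h2 (Nat.eq_of_mul_eq_mul_left hx (by omega))
  · have h3 : orderOf x * orderOf a = orderOf x * orderOf b := by rw [← hob, ← hoa, ← hφ, MulEquiv.orderOf_eq]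
    exact hab (Nat.eq_of_mul_eq_mul_left hx h3)

variable {F : Type} [Field F] {m k : ℕ}

theorem orderOf_mk_fix [Finite F] {A : Matrix.symplecticGroup (Fin m) F} {v : Fin m ⊕ Fin m → F} (hv : v ≠ 0)
    (h : (A : Matrix (Fin m ⊕ Fin m) (Fin m ⊕ Fin m) F) *ᵥ v = v) :
    orderOf (QuotientGroup.mk A : PSp m F) = orderOf A := by
  apply Nat.dvd_antisymm (orderOf_map_dvd (QuotientGroup.mk' _) A)
  apply orderOf_dvd_of_pow_eq_one
  have h1 : A ^ orderOf (QuotientGroup.mk A : PSp m F) ∈ center (Matrix.symplecticGroup (Fin m) F) := by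
    rw [← QuotientGroup.eq_one_iff]
    show (QuotientGroup.mk A : PSp m F) ^ _ = 1
    exact pow_orderOf_eq_one _
  refine Subtype.ext (?_ : ((A ^ orderOf (QuotientGroup.mk A : PSp m F) : Matrix.symplecticGroup (Fin m) F) :
    Matrix (Fin m ⊕ Fin m) (Fin m ⊕ Fin m) F) = 1)
  have h2 := fix_pow h (orderOf (QuotientGroup.mk A : PSp m F))
  obtain ⟨c, hc⟩ := (LieClassical.SympCenter.mem_center_iff m _).1 h1
  rw [hc, Matrix.smul_mulVec, Matrix.one_mulVec] at h2
  have h3 : (c - 1) • v = 0 := by rw [sub_smul, h2, one_smul, sub_self]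
  rcases smul_eq_zero.1 h3 with h4 | h4
  · rw [hc, sub_eq_zero.1 h4, one_smul]
  · exact absurd h4 hv

/-- the first type: fixed vectors -/
theorem three_d₁ [Fintype F] (hk : 1 ≤ k) {r : ℕ} (hr : r.Prime) (hr5 : 5 ≤ r)
    {b : Matrix.symplecticGroup (Fin k) F} (hb : orderOf b = r) {R : Subgroup (PSp (k + k) F)}
    (hm : ∀ φ : PSp (k + k) F ≃* PSp (k + k) F, φ (QuotientGroup.mk (d₁ b)) ∉ R) : Three (PSp (k + k) F) R := by
  have hfin : Finite (PSp (k + k) F) := Quotient.finite _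
  have : Fact (Nat.Prime 2) := ⟨Nat.prime_two⟩
  have : Fact (Nat.Prime 3) := ⟨Nat.prime_three⟩
  obtain ⟨a, ha⟩ := exists_prime_orderOf_dvd_card' 2 (two_three (F := F) (k := k) hk (Or.inl rfl))
  obtain ⟨c, hc⟩ := exists_prime_orderOf_dvd_card' 3 (two_three (F := F) (k := k) hk (Or.inr rfl))
  have hx : orderOf (QuotientGroup.mk (d₁ b) : PSp (k + k) F) = r := by
    rw [Cfsg.Agent.H388.Der.orderOf_mk hr (by omega)]
    rw [orderOf_d₁, hb]
  have hfix : ∀ a : Matrix.symplecticGroup (Fin k) F, ∃ v : Fin (k + k) ⊕ Fin (k + k) → F, v ≠ 0 ∧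
      (spExt (e₂ k) e₂_inj a : Matrix (Fin (k + k) ⊕ Fin (k + k)) (Fin (k + k) ⊕ Fin (k + k)) F) *ᵥ v = v := by
    intro a
    let x : Fin (k + k) ⊕ Fin (k + k) := Sum.inl (e₁ k ⟨0, hk⟩)
    refine ⟨Pi.single x 1, ?_, ?_⟩
    · intro h
      have := congrFun h x
      simp at this
    · apply vec_ext
      · rw [x₂_fst]
      · rw [x₂_snd]
        have h0 : (Pi.single x 1 : Fin (k + k) ⊕ Fin (k + k) → F) ∘ Sum.map (e₂ k) (e₂ k) = 0 := by
          ext i
          rw [Function.comp_apply, Pi.single_eq_of_ne, Pi.zero_apply]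
          intro h
          exact se_ne (Sum.inl ⟨0, hk⟩) i h.symm
        rw [h0, Matrix.mulVec_zero]
  have hcomm : ∀ a : Matrix.symplecticGroup (Fin k) F, Commute (QuotientGroup.mk (d₁ b) : PSp (k + k) F)
      (QuotientGroup.mk (spExt (e₂ k) e₂_inj a)) := fun a =>
    (spExt_comm b a).map (QuotientGroup.mk' _)
  have hoa : ∀ a : Matrix.symplecticGroup (Fin k) F,
      orderOf (QuotientGroup.mk (spExt (e₂ k) e₂_inj a) : PSp (k + k) F) = orderOf a := by
    intro a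
    obtain ⟨v, hv, hv'⟩ := hfix a
    rw [orderOf_mk_fix hv hv', orderOf_injective _ (spExt_injective _ _)]
  refine three_of_missing (x := QuotientGroup.mk (d₁ b)) (a := QuotientGroup.mk (spExt (e₂ k) e₂_inj a))
    (b := QuotientGroup.mk (spExt (e₂ k) e₂_inj c)) hm (hcomm a) (hcomm c) ?_ ?_ ?_ ?_ ?_
  · rw [hx, hoa, ha]; exact (Nat.coprime_primes hr Nat.prime_two).2 (by omega)
  · rw [hx, hoa, hc]; exact (Nat.coprime_primes hr Nat.prime_three).2 (by omega)
  · rw [hoa, ha]; norm_num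
  · rw [hoa, hc]; norm_num
  · rw [hoa, hoa, ha, hc]; norm_num

/-- the second type: no fixed vectors -/
theorem sing_core [Fintype F] {A : Matrix.symplecticGroup (Fin m) F} (hR : Rig A) {r s t : ℕ} (hr : r.Prime)
    (hr2 : r ≠ 2) (hro : r ∣ orderOf A) (hs : s ∣ orderOf (QuotientGroup.mk A : PSp m F))
    (ht : t ∣ orderOf (QuotientGroup.mk A : PSp m F)) (hrs : r.Coprime s) (hrt : r.Coprime t) (hs1 : 1 < s)
    (ht1 : 1 < t) (hst : s ≠ t) :
    ∃ y : Matrix.symplecticGroup (Fin m) F, orderOf y = r ∧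
      (∀ v, (y : Matrix (Fin m ⊕ Fin m) (Fin m ⊕ Fin m) F) *ᵥ v = v → v = 0) ∧
      ∀ R : Subgroup (PSp m F), (∀ φ : PSp m F ≃* PSp m F, φ (QuotientGroup.mk y) ∉ R) → Three (PSp m F) R := by
  have hfin : Finite (PSp m F) := Quotient.finite _
  obtain ⟨n, hn⟩ := hro
  have hA0 : 0 < orderOf A := orderOf_pos A
  have hn0 : n ≠ 0 := by rintro rfl; omega
  have ho : orderOf (A ^ n) = r := by
    rw [orderOf_pow' A hn0, hn, Nat.gcd_mul_left_left]
    exact Nat.mul_div_cancel _ (Nat.pos_of_ne_zero hn0)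
  refine ⟨A ^ n, ho, fun v hv => ?_, fun R hm => ?_⟩
  · by_contra hv0
    have h1 := hR n 1 (Or.inl rfl) v hv0 (by rw [one_smul]; exact hv)
    obtain ⟨c, hc⟩ := (LieClassical.SympCenter.mem_center_iff m _).1 h1
    rw [hc, Matrix.smul_mulVec, Matrix.one_mulVec] at hv
    have h3 : (c - 1) • v = 0 := by rw [sub_smul, hv, one_smul, sub_self]
    rcases smul_eq_zero.1 h3 with h4 | h4
    · have h5 : A ^ n = 1 := Subtype.ext (by rw [hc, sub_eq_zero.1 h4, one_smul]; rfl)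
      rw [h5, orderOf_one] at ho
      exact hr.one_lt.ne ho
    · exact hv0 h4
  · obtain ⟨c, hc⟩ : ∃ c, c = orderOf (QuotientGroup.mk A : PSp m F) := ⟨_, rfl⟩
    have hc0 : 0 < c := by rw [hc]; exact orderOf_pos _
    rw [← hc] at hs ht
    have hpow : ∀ {s : ℕ}, s ∣ c → 1 < s → orderOf ((QuotientGroup.mk A : PSp m F) ^ (c / s)) = s := by
      intro s hs hs1
      obtain ⟨j, hj⟩ := hs
      have hj0 : j ≠ 0 := by rintro rfl; omega
      rw [hj, Nat.mul_div_cancel_left _ (by omega), orderOf_pow' _ hj0, ← hc, hj, Nat.gcd_mul_left_left]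
      exact Nat.mul_div_cancel _ (Nat.pos_of_ne_zero hj0)
    have hy : (QuotientGroup.mk (A ^ n) : PSp m F) = (QuotientGroup.mk A : PSp m F) ^ n := rfl
    have hx : orderOf (QuotientGroup.mk (A ^ n) : PSp m F) = r := Cfsg.Agent.H388.Der.orderOf_mk hr hr2 ho
    refine three_of_missing (x := QuotientGroup.mk (A ^ n)) (a := (QuotientGroup.mk A : PSp m F) ^ (c / s))
      (b := (QuotientGroup.mk A : PSp m F) ^ (c / t)) hm ?_ ?_ ?_ ?_ ?_ ?_ ?_
    · rw [hy]; exact ((Commute.refl _).pow_left _).pow_right _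
    · rw [hy]; exact ((Commute.refl _).pow_left _).pow_right _
    · rw [hx, hpow hs hs1]; exact hrs
    · rw [hx, hpow ht ht1]; exact hrt
    · rw [hpow hs hs1]; omega
    · rw [hpow ht ht1]; omega
    · rw [hpow hs hs1, hpow ht ht1]; exact hst

/-- one of the two types is missing -/
theorem missing_or [Finite F] (hm : 3 ≤ m) {r : ℕ} (hr : r.Prime) (hr2 : r ≠ 2)
    {y₁ y₂ : Matrix.symplecticGroup (Fin m) F} (h1 : orderOf y₁ = r) (h2 : orderOf y₂ = r)
    (hf₁ : ∃ v : Fin m ⊕ Fin m → F, v ≠ 0 ∧ (y₁ : Matrix (Fin m ⊕ Fin m) (Fin m ⊕ Fin m) F) *ᵥ v = v)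
    (hf₂ : ∀ v, (y₂ : Matrix (Fin m ⊕ Fin m) (Fin m ⊕ Fin m) F) *ᵥ v = v → v = 0)
    {R : Subgroup (PSp m F)}
    (hR : ∀ a b : R, orderOf a = r → orderOf b = r → ∃ (c : R) (j : ℤ), b = c * a ^ j * c⁻¹) :
    (∀ φ : PSp m F ≃* PSp m F, φ (QuotientGroup.mk y₁) ∉ R) ∨
      ∀ φ : PSp m F ≃* PSp m F, φ (QuotientGroup.mk y₂) ∉ R := by
  classical
  have hro : Odd r := hr.eq_two_or_odd'.resolve_left hr2
  have hy₁ : y₁ ^ r = 1 := by rw [← h1]; exact pow_orderOf_eq_one y₁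
  have hy₂ : y₂ ^ r = 1 := by rw [← h2]; exact pow_orderOf_eq_one y₂
  by_contra hcon
  push Not at hcon
  obtain ⟨⟨φ₁, hφ₁⟩, φ₂, hφ₂⟩ := hcon
  have ho : ∀ {y : Matrix.symplecticGroup (Fin m) F} {φ : PSp m F ≃* PSp m F}
      (hy : orderOf y = r) (hm : φ (QuotientGroup.mk y) ∈ R), orderOf (⟨φ (QuotientGroup.mk y), hm⟩ : R) = r := by
    intro y φ hy hm
    rw [Subgroup.orderOf_mk, MulEquiv.orderOf_eq, Cfsg.Agent.H388.Der.orderOf_mk hr hr2 hy]
  obtain ⟨c, j, hc⟩ := hR ⟨_, hφ₁⟩ ⟨_, hφ₂⟩ (ho h1 hφ₁) (ho h2 hφ₂)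
  have hc' : φ₂ (QuotientGroup.mk y₂) = (c : PSp m F) * (φ₁ (QuotientGroup.mk y₁)) ^ j * (c : PSp m F)⁻¹ :=
    congrArg Subtype.val hc
  obtain ⟨n, hn⟩ : ∃ n : ℕ, (φ₁ (QuotientGroup.mk y₁)) ^ j = (φ₁ (QuotientGroup.mk y₁)) ^ n := by
    have hfo : IsOfFinOrder (φ₁ (QuotientGroup.mk y₁)) := by
      rw [← orderOf_pos_iff, MulEquiv.orderOf_eq, Cfsg.Agent.H388.Der.orderOf_mk hr hr2 h1]
      exact hr.pos
    have hmem : (φ₁ (QuotientGroup.mk y₁)) ^ j ∈ Subgroup.zpowers (φ₁ (QuotientGroup.mk y₁)) := ⟨j, rfl⟩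
    rw [hfo.mem_zpowers_iff_mem_range_orderOf] at hmem
    obtain ⟨n, -, hn⟩ := Finset.mem_image.1 hmem
    exact ⟨n, hn.symm⟩
  rw [hn] at hc'
  have hψ : (((MulAut.conj (c : PSp m F)).symm.trans φ₁.symm : PSp m F ≃* PSp m F)) (φ₂ (QuotientGroup.mk y₂)) =
      QuotientGroup.mk (y₁ ^ n) := by
    rw [hc', MulEquiv.trans_apply]
    have h3 : (MulAut.conj (c : PSp m F)).symm ((c : PSp m F) * (φ₁ (QuotientGroup.mk y₁)) ^ n * (c : PSp m F)⁻¹) =
        (φ₁ (QuotientGroup.mk y₁)) ^ n := by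
      rw [MulEquiv.symm_apply_eq]
      rfl
    rw [h3, ← map_pow, MulEquiv.symm_apply_apply, QuotientGroup.mk_pow]
  obtain ⟨B, σ, hB⟩ := aut_odd hm hro (φ₂.trans ((MulAut.conj (c : PSp m F)).symm.trans φ₁.symm)) hy₂
    (C := y₁ ^ n) (by rw [← pow_mul, mul_comm, pow_mul, hy₁, one_pow]) hψ
  obtain ⟨v, hv0, hv⟩ := hf₁
  apply hv0
  refine Cfsg.Agent.H81.SaxSp.fix_map (A := spToGL m F y₂) (B := B) (σ := σ) hf₂ v ?_
  rw [← hB]
  exact fix_pow hv n

/-- orthogonal subgroups of minus type miss the elements without fixed vectors -/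
theorem missing_minus [Fintype F] {r : ℕ} (hm : 3 ≤ m) (hr : r.Prime) (hr2 : r ≠ 2)
    (hnum : ((Fintype.card F : ZMod r) ^ m + 1) * ((Fintype.card F : ZMod r) ^ (m - 1) - 1) ≠ 0)
    {y : Matrix.symplecticGroup (Fin m) F} (hy : orderOf y = r)
    (hf : ∀ v, (y : Matrix (Fin m ⊕ Fin m) (Fin m ⊕ Fin m) F) *ᵥ v = v → v = 0)
    {R : Subgroup (PSp m F)} (hR : Cfsg.Agent.H901.SaxSp.InOMinus m F (pre R))
    (φ : PSp m F ≃* PSp m F) : φ (QuotientGroup.mk y) ∉ R := by
  intro hφ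
  obtain ⟨-, -, Q, hpol, hQP, hle⟩ := hR
  have hro : Odd r := hr.eq_two_or_odd'.resolve_left hr2
  have hyr : y ^ r = 1 := by rw [← hy]; exact pow_orderOf_eq_one y
  obtain ⟨C, hC, hCr⟩ := exists_lift (F := F) (m := m) hro (x := φ (QuotientGroup.mk y)) (by
    rw [← map_pow, ← QuotientGroup.mk_pow, hyr, QuotientGroup.mk_one, map_one])
  obtain ⟨B, σ, hB⟩ := aut_odd hm hro φ hyr hCr hC.symm
  have hCf : ∀ v, ((spToGL m F C : GL (Fin m ⊕ Fin m) F) :
      Matrix (Fin m ⊕ Fin m) (Fin m ⊕ Fin m) F) *ᵥ v = v → v = 0 := by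
    rw [hB]
    exact Cfsg.Agent.H81.SaxSp.fix_map (A := spToGL m F y) (B := B) (σ := σ) hf
  rw [← hC, ← mem_pre] at hφ
  have hsim : spToGL m F C ∈ quadSimilarityGroup (⇑Q) := by
    refine ⟨1, fun v => ?_⟩
    rw [Units.val_one, one_mul]
    exact (Cfsg.Agent.ClassicalGeometry.Reflection.mem_isometryGroup_iff _ _).1 (hle hφ) v
  have hι : Fintype.card (Fin m ⊕ Fin m) = 2 * m := by
    rw [Fintype.card_sum, Fintype.card_fin, two_mul]
  rcases quad_dichotomy (m := m) (by omega) hι hr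
    (Cfsg.Agent.H883.Bridge.isNondegenerateQuadraticForm (nondeg_symp hpol)) hsim
    (by rw [← map_pow, hCr, map_one]) hCf with ⟨⟨Q', hQ', hP⟩, -⟩ | ⟨-, h⟩
  · have : Q' = Q := DFunLike.coe_injective hQ'
    rw [this] at hP
    exact hQP hP
  · exact hnum h

end Cfsg.Agent.H901.Der
end

-- part: H901/Der/SpRow
section
/-!
# S3502: `PSp_2m(q)`, `m ≥ 3`, `(m, q) ≠ (3, 2), (3, 3), (4, 2)` (helper901)

* `psp_class` : the case division for proper subgroups of `PSp_2m(q)`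
* `three_psp` : every proper subgroup has three missing classes
-/

set_option autoImplicit false
set_option linter.style.haveILetI false

namespace Cfsg.Agent.H901.Der

open Matrix Cfsg Cfsg.Geo Cfsg.Agent.H439.Der Cfsg.Agent.H876 Cfsg.Agent.H262.El Cfsg.Agent.OrdDiv Cfsg.Agent.H436
  Cfsg.Agent.H264.FKS Cfsg.Agent.H915.GN
open Cfsg.Agent.H278.El.SporNum (IsCl exc)
open Cfsg.Agent.H278.El.AltNum (dimOf surv)
open Cfsg.Agent.H938.Sax (PGap)
open Cfsg.Agent.H388.Der (hker_sp' od_of_prim num_of_od d₁ d₁_fix orderOf_d₁ blk_of_od blk_seven)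

variable {F : Type} [Field F] [Fintype F]

/-- **The proper subgroups of `PSp_2m(q)`**, `m ≥ 3`, `(m, q) ≠ (3, 2), (4, 2)`. -/
theorem psp_class (tab : OrderTable.{0}) (hK : ∀ (X : Type) [Group X] [Finite X] [IsSimpleGroup X], Cfsg.IsKnownSimple' X)
    {m p f : ℕ} [CharP F p] (hp : p.Prime) (hf : 1 ≤ f) (hF : Fintype.card F = p ^ f) (hm : 3 ≤ m)
    (hex : ¬ (m = 3 ∧ Fintype.card F = 2)) (h42 : ¬ (m = 4 ∧ Fintype.card F = 2)) {R : Subgroup (PSp m F)}
    (hR : R ≠ ⊤) {Q : Prop} (q1 : PGap (PSp m F) R → Q) (q2 : Cfsg.Agent.H901.SaxSp.InOMinus m F (pre R) → Q)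
    (q3 : ∀ (S : Subgroup R) [S.Normal] [IsSimpleGroup S], ¬ IsMulCommutative S →
      Subgroup.centralizer (S : Set R) = ⊥ → ∀ g : Grp, IsNamed g S → g = .ominus m (p ^ f) → m % 2 = 0 → Q) : Q := by
  have hfin : Finite (PSp m F) := Quotient.finite _
  rcases Cfsg.Agent.H901.SaxSp.psp_cases (F := F) (m := m) (by omega) (fun h => by omega) hex (fun h => by omega) hR with
    h | ⟨P, hP, -⟩ | h | ⟨h, -⟩
  · exact q1 h
  · have hT : IsNamed (.psp m (Fintype.card F)) (PSp m F) := named_psp (F := F) (n := m) (by omega) (by omega)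
    obtain ⟨S, hSn, hSs, hna, hC, ⟨e⟩⟩ := exists_socle
      (spToGL m F) spToGL_injective _ (QuotientGroup.mk'_surjective _) hker_sp' hP
    obtain ⟨g, hg⟩ := exists_named tab (hK S) fun h => hna ⟨⟨h⟩⟩
    refine Cfsg.Agent.H278.El.Asm.res_kill (p := p) (Q := Q) hT trivial ?_ ?_ S hC hg e ?_ q1 ?_ ?_
    · simp only [surv, List.mem_cons, Grp.psp.injEq, reduceCtorEq, or_false, false_or, List.not_mem_nil, not_or]
      exact ⟨by omega, by omega, by omega, by omega⟩
    · intro g' hg'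
      simp only [exc, List.mem_cons, Prod.mk.injEq, reduceCtorEq, and_false, or_false, List.not_mem_nil] at hg'
    · rw [Fintype.card_sum, Fintype.card_fin]
      exact (two_mul m).symm
    · intro hch
      by_cases hfull : Full (PSp m F) R
      · rw [hF] at hT
        obtain ⟨h1, h2⟩ := full_psp hT hp hf hm (fun h => by
            obtain ⟨rfl, h⟩ := h
            have h3 : f * 6 ≤ f * (2 * m) := Nat.mul_le_mul_left f (by omega)
            have h4 : f = 1 := by omega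
            subst h4
            exact hex ⟨by omega, by rw [hF]; norm_num⟩) (fun h => by
            obtain ⟨rfl, h⟩ := h
            have h3 : f * 4 ≤ f * (2 * (m - 1)) := Nat.mul_le_mul_left f (by omega)
            have h4 : f = 1 := by omega
            subst h4
            exact h42 ⟨by omega, by rw [hF]; norm_num⟩) hR hfull S hna hC hg hch
        exact q3 S hna hC g hg h2 h1
      · refine q1 ?_
        unfold Full at hfull
        push Not at hfull
        obtain ⟨r, h1, h2, h3⟩ := hfull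
        exact ⟨r, h1, h2, h3⟩
    · intro s hs hsp hch
      rcases Cfsg.Agent.H884.Cx.cross_row (p := p) hp hT trivial ⟨f, hF⟩ (F := F) (ι := Fin m ⊕ Fin m) (by
          rw [Fintype.card_sum, Fintype.card_fin]; exact (two_mul m).symm) S hna hC hP.perfect e hs hsp hg hch with h | h
      · exact q1 h
      · exfalso
        simp only [Cfsg.Agent.H884.Cx.excP, List.mem_cons, Prod.mk.injEq, Grp.psp.injEq, reduceCtorEq, and_false,
          or_false, false_or, List.not_mem_nil] at h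
        omega
  · exact q2 h
  · omega

/-- `8 ∣ q ^ (2 k) - 1`, `q` odd -/
theorem eight_dvd {q k : ℕ} (hq : Odd q) : 8 ∣ q ^ (k + k) - 1 := by
  have h1 : q ^ (k + k) = (q ^ k) ^ 2 := by rw [← pow_mul, mul_comm, two_mul]
  rw [h1]
  have h2 : Odd (q ^ k) := hq.pow
  obtain ⟨j, hj⟩ := h2
  rw [hj]
  have h3 : (2 * j + 1) ^ 2 - 1 = 4 * (j * (j + 1)) := by
    have : (2 * j + 1) ^ 2 = 4 * (j * (j + 1)) + 1 := by ring
    omega
  rw [h3]
  obtain ⟨l, hl⟩ := Nat.even_mul_succ_self j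
  rw [hl]
  exact ⟨l, by ring⟩

/-- the element of order `r` without fixed vectors and its centralizer -/
theorem exists_y₂ {p f k r : ℕ} (hp : p.Prime) (hf : 1 ≤ f) (hF : Fintype.card F = p ^ f) (hk : 2 ≤ k)
    (h22 : ¬ (k = 2 ∧ Fintype.card F = 2))
    (hr : (Prim (Fintype.card F) (k + k) r) ∨ (Fintype.card F = 2 ∧ k = 3 ∧ r = 7)) (hr5 : 5 ≤ r) :
    ∃ y : Matrix.symplecticGroup (Fin (k + k)) F, orderOf y = r ∧
      (∀ v, (y : Matrix (Fin (k + k) ⊕ Fin (k + k)) (Fin (k + k) ⊕ Fin (k + k)) F) *ᵥ v = v → v = 0) ∧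
      ∀ R : Subgroup (PSp (k + k) F), (∀ φ : PSp (k + k) F ≃* PSp (k + k) F, φ (QuotientGroup.mk y) ∉ R) →
        Three (PSp (k + k) F) R := by
  have hrp : r.Prime := by
    rcases hr with hr | ⟨-, -, rfl⟩
    · exact hr.prime
    · norm_num
  have hq1 : 1 ≤ Fintype.card F := Fintype.card_pos
  have hrd : r ∣ Fintype.card F ^ (k + k) - 1 := by
    rcases hr with hr | ⟨h1, rfl, rfl⟩
    · exact (hr.dvd_iff _).2 dvd_rfl
    · rw [h1]; norm_num
  obtain ⟨A, hA, hR⟩ := tor_plus (F := F) (m := k + k) (by omega)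
  have h2c := dvd_two_mul_orderOf_mk A
  rw [hA] at h2c
  rcases hp.eq_two_or_odd' with rfl | hodd
  · have hchar : CharP F 2 := by
      obtain ⟨p', hp'⟩ := CharP.exists F
      have hpp : p'.Prime := CharP.char_is_prime F p'
      obtain ⟨n, -, hn⟩ := FiniteField.card F p'
      have h2 : p' ∣ 2 ^ f := by rw [← hF, hn]; exact dvd_pow_self _ n.ne_zero
      have h3 : p' = 2 := (Nat.prime_dvd_prime_iff_eq hpp Nat.prime_two).1 (hpp.dvd_of_dvd_pow h2)
      rwa [h3] at hp'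
    have h20 : (2 : F) = 0 := by exact_mod_cast CharP.cast_eq_zero F 2
    have hc : orderOf (QuotientGroup.mk A : PSp (k + k) F) = Fintype.card F ^ (k + k) - 1 := by
      rw [orderOf_mk_even h20, hA]
    rcases hr with hr | ⟨h1, rfl, rfl⟩
    · have hqk : 1 < Fintype.card F ^ k := Nat.one_lt_pow (by omega) (by
        rw [hF]; exact Nat.one_lt_pow (by omega) (by norm_num))
      have hfac : Fintype.card F ^ (k + k) - 1 = (Fintype.card F ^ k + 1) * (Fintype.card F ^ k - 1) := by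
        rw [← two_mul, mul_comm 2 k, pow_mul]
        have := Nat.sq_sub_sq (Fintype.card F ^ k) 1
        simpa only [_root_.one_pow] using this
      have hndvd : ¬ r ∣ Fintype.card F ^ k - 1 := by
        rw [hr.dvd_iff]
        intro h
        have := Nat.le_of_dvd (by omega) h
        omega
      have hfk : 3 ≤ f * k := by
        by_contra hlt
        have h3 : 1 * 2 ≤ f * k := Nat.mul_le_mul hf hk
        have h4 : f * 2 ≤ f * k := Nat.mul_le_mul_left f hk
        have h5 : f = 1 := by omega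
        subst h5
        exact h22 ⟨by omega, by rw [hF, pow_one]⟩
      have h8 : 8 ≤ Fintype.card F ^ k := by
        rw [hF, ← pow_mul]
        calc 8 = 2 ^ 3 := by norm_num
          _ ≤ 2 ^ (f * k) := Nat.pow_le_pow_right (by norm_num) hfk
      refine sing_core hR (s := 3) (t := Fintype.card F ^ k - 1) hrp (by omega) (by rw [hA]; exact hrd) ?_ ?_ ?_ ?_
        (by norm_num) (by omega) (by omega)
      · rw [hc, hF, ← pow_mul]
        have h9 : f * (k + k) = 2 * (f * k) := by ring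
        rw [h9, pow_mul]
        have h10 : (2 ^ 2) ^ (f * k) ≡ 1 [MOD 3] := by
          have : (2 ^ 2) ≡ 1 [MOD 3] := by decide
          simpa using this.pow (f * k)
        exact (Nat.modEq_iff_dvd' (Nat.one_le_pow _ _ (by norm_num))).1 h10.symm
      · rw [hc, hfac]; exact dvd_mul_left _ _
      · exact (Nat.coprime_primes hrp Nat.prime_three).2 (by omega)
      · exact (Nat.Prime.coprime_iff_not_dvd hrp).2 hndvd
    · refine sing_core hR (s := 3) (t := 9) hrp (by norm_num) (by rw [hA]; exact hrd) ?_ ?_ (by norm_num) (by norm_num)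
        (by norm_num) (by norm_num) (by norm_num)
      · rw [hc, h1]; norm_num
      · rw [hc, h1]; norm_num
  · have ho : Odd (Fintype.card F) := by rw [hF]; exact hodd.pow
    have h8 : 8 ∣ 2 * orderOf (QuotientGroup.mk A : PSp (k + k) F) := (eight_dvd ho).trans h2c
    have h4 : 4 ∣ orderOf (QuotientGroup.mk A : PSp (k + k) F) := by omega
    refine sing_core hR (s := 2) (t := 4) hrp (by omega) (by rw [hA]; exact hrd) ((by norm_num : 2 ∣ 4).trans h4) h4 ?_ ?_
      (by norm_num) (by norm_num) (by norm_num)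
    · exact (Nat.coprime_primes hrp Nat.prime_two).2 (by omega)
    · exact Nat.Coprime.pow_right 2 ((Nat.coprime_primes hrp Nat.prime_two).2 (by omega))

/-- subgroups with cyclic Sylow `r`-subgroups -/
theorem three_of_cyc {k r : ℕ} (hk : 2 ≤ k) (hr : r.Prime) (hr5 : 5 ≤ r)
    {b : Matrix.symplecticGroup (Fin k) F} (hb : orderOf b = r)
    {y : Matrix.symplecticGroup (Fin (k + k)) F} (hy : orderOf y = r)
    (hyf : ∀ v, (y : Matrix (Fin (k + k) ⊕ Fin (k + k)) (Fin (k + k) ⊕ Fin (k + k)) F) *ᵥ v = v → v = 0)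
    (hy3 : ∀ R : Subgroup (PSp (k + k) F), (∀ φ : PSp (k + k) F ≃* PSp (k + k) F, φ (QuotientGroup.mk y) ∉ R) →
        Three (PSp (k + k) F) R) {R : Subgroup (PSp (k + k) F)} (hR : Cyc r R) : Three (PSp (k + k) F) R := by
  haveI : Fact r.Prime := ⟨hr⟩
  have hfin : Finite (PSp (k + k) F) := Quotient.finite _
  rcases missing_or (F := F) (m := k + k) (by omega) hr (by omega) (y₁ := d₁ b) (y₂ := y) (by rw [orderOf_d₁, hb]) hy
    (d₁_fix (by omega) b) hyf (R := R) (fun a b ha hb => hR.exists_conj ha hb) with h | h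
  · exact three_d₁ (by omega) hr hr5 hb h
  · exact hy3 R h

/-- **Every proper subgroup of `PSp_2m(q)` has three missing classes**, `m ≥ 3`, `(m, q) ≠ (3, 2), (3, 3), (4, 2)`. -/
theorem three_psp (tab : OrderTable.{0}) (hK : ∀ (X : Type) [Group X] [Finite X] [IsSimpleGroup X], Cfsg.IsKnownSimple' X)
    {m : ℕ} (hm : 3 ≤ m) (hex : ¬ (m = 3 ∧ Fintype.card F = 2)) (h42 : ¬ (m = 4 ∧ Fintype.card F = 2))
    (h33 : ¬ (m = 3 ∧ Fintype.card F = 3)) {R : Subgroup (PSp m F)} (hR : R ≠ ⊤) : Three (PSp m F) R := by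
  have hfin : Finite (PSp m F) := Quotient.finite _
  have hntc := ntc (F := F) hm hex h42 h33
  obtain ⟨p, hpc⟩ := CharP.exists F
  obtain ⟨f', hp, hF⟩ := FiniteField.card F p
  obtain ⟨f, hff⟩ : ∃ f : ℕ, f = (f' : ℕ) := ⟨_, rfl⟩
  rw [← hff] at hF
  have hf : 1 ≤ f := by rw [hff]; exact f'.pos
  refine psp_class tab hK hp hf hF hm hex h42 hR (Three.of_pgap hntc) ?_ ?_
  · rintro ⟨⟨k, rfl⟩, hodd, hrest⟩
    have hk : 2 ≤ k := by omega
    by_cases h6 : p = 2 ∧ f * (k + k) = 6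
    · obtain ⟨rfl, h6⟩ := h6
      have hf1 : f = 1 := by
        have h7 : f * 4 ≤ f * (k + k) := Nat.mul_le_mul_left f (by omega)
        omega
      subst hf1
      have hk3 : k = 3 := by omega
      subst hk3
      have hF2 : Fintype.card F = 2 := by rw [hF]; norm_num
      obtain ⟨y, hy, hyf, hy3⟩ := exists_y₂ (F := F) (k := 3) (r := 7) hp hf hF (by norm_num) (by norm_num)
        (Or.inr ⟨hF2, rfl, rfl⟩) (by norm_num)
      refine hy3 R (missing_minus (by omega) (by norm_num) (by norm_num) ?_ hy hyf ⟨⟨3, rfl⟩, hodd, hrest⟩)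
      rw [hF2]
      decide
    · obtain ⟨r, hr, hlt⟩ := exists_big (p := p) (f := f) (n := k + k) hp hf (by omega) h6
      have hr5 : 5 ≤ r := five_le_of_prim (by omega) hr
      have hod := od_of_prim hr
      rw [← hF] at hod hr
      obtain ⟨y, hy, hyf, hy3⟩ := exists_y₂ (F := F) (k := k) (r := r) hp hf hF hk (fun h => h42 ⟨by omega, h.2⟩)
        (Or.inl hr) hr5
      exact hy3 R (missing_minus (by omega) hr.prime (by omega) (num_of_od (by omega) hod (by omega)) hy hyf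
        ⟨⟨k, rfl⟩, hodd, hrest⟩)
  · intro S hSn hSs hna hC g hS hg hm2
    obtain ⟨k, rfl⟩ : ∃ k, m = k + k := ⟨m / 2, by omega⟩
    have hk : 2 ≤ k := by omega
    by_cases h6 : p = 2 ∧ f * (k + k) = 6
    · obtain ⟨rfl, h6⟩ := h6
      have hf1 : f = 1 := by
        have h7 : f * 4 ≤ f * (k + k) := Nat.mul_le_mul_left f (by omega)
        omega
      subst hf1
      have hk3 : k = 3 := by omega
      subst hk3
      have hF2 : Fintype.card F = 2 := by rw [hF]; norm_num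
      obtain ⟨y, hy, hyf, hy3⟩ := exists_y₂ (F := F) (k := 3) (r := 7) hp hf hF (by norm_num) (by norm_num)
        (Or.inr ⟨hF2, rfl, rfl⟩) (by norm_num)
      obtain ⟨b, hb, -⟩ := blk_seven (F := F) hF2
      exact three_of_cyc (by norm_num) (by norm_num) (by norm_num) hb hy hyf hy3 (cyc_six S hna hC (Or.inl hg) hS)
    · obtain ⟨r, hr, hlt⟩ := exists_big (p := p) (f := f) (n := k + k) hp hf (by omega) h6
      have hr5 : 5 ≤ r := five_le_of_prim (by omega) hr
      have hcyc : Cyc r R := cyc_four S hna hC (Or.inl hg) hS hp hf hr hlt (by omega) (by omega)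
      obtain ⟨b, hb, -⟩ := blk_of_od (F := F) (k := k) (r := r) (by omega) (by
        rw [hF, two_mul]; exact od_of_prim hr)
      rw [← hF] at hr
      obtain ⟨y, hy, hyf, hy3⟩ := exists_y₂ (F := F) (k := k) (r := r) hp hf hF hk (fun h => h42 ⟨by omega, h.2⟩)
        (Or.inl hr) hr5
      exact three_of_cyc hk hr.prime hr5 hb hy hyf hy3 hcyc

end Cfsg.Agent.H901.Der
end

-- part: H901/Der/SpEightX
section
/-!
# The `136` quadratic forms of plus type on the symplectic space `F₂⁸` (S3502)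

* `XX` : the forms, with the action of `Sp₈(2)`; `card_XX`
* `nfix A` : the number of forms fixed by `A`; `nfix_conj`, `nfix_eq` (as a decidable count)
* `exists_mem_of_two` : an element fixing two forms fixes their difference
-/

set_option autoImplicit false
set_option linter.unusedSectionVars false

namespace Cfsg.Agent.H901.Der

open Cfsg Cfsg.Agent.ClassicalGeometry.SympBasic
open scoped Matrix

abbrev V8 := Fin 4 ⊕ Fin 4 → ZMod 2
abbrev M8 := Matrix (Fin 4 ⊕ Fin 4) (Fin 4 ⊕ Fin 4) (ZMod 2)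
abbrev G8 := Matrix.symplecticGroup (Fin 4) (ZMod 2)

/-- the symplectic form -/
def sf (u v : V8) : ZMod 2 := ∑ i : Fin 4, (u (Sum.inl i) * v (Sum.inr i) + u (Sum.inr i) * v (Sum.inl i))

/-- the standard form of plus type -/
def q0 (v : V8) : ZMod 2 := ∑ i : Fin 4, v (Sum.inl i) * v (Sum.inr i)

theorem sf_eq (u v : V8) : sympForm 4 (ZMod 2) u v = sf u v := by
  rw [sympForm_eq_sum, sf]
  refine Finset.sum_congr rfl fun i _ => ?_
  rw [CharTwo.sub_eq_add, add_comm]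

theorem sf_add_left (u u' v : V8) : sf (u + u') v = sf u v + sf u' v := by
  rw [← sf_eq, ← sf_eq, ← sf_eq, sympForm_add_left]

theorem sf_add_right (u v v' : V8) : sf u (v + v') = sf u v + sf u v' := by
  rw [← sf_eq, ← sf_eq, ← sf_eq, sympForm_add_right]

theorem sf_comm (u v : V8) : sf u v = sf v u := by
  rw [← sf_eq, ← sf_eq, sympForm_swap, CharTwo.neg_eq]

theorem sf_mulVec (A : G8) (u v : V8) : sf ((A : M8) *ᵥ u) ((A : M8) *ᵥ v) = sf u v := by
  rw [← sf_eq, ← sf_eq, sympForm_mulVec A.2]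

theorem eq_zero_of_sf {a : V8} (h : ∀ v, sf a v = 0) : a = 0 :=
  eq_zero_of_forall_sympForm_right (m := 4) fun w => by rw [sf_eq, h]

theorem q0_add (u v : V8) : q0 (u + v) = q0 u + q0 v + sf u v := by
  simp only [q0, sf, ← Finset.sum_add_distrib]
  refine Finset.sum_congr rfl fun i _ => ?_
  simp only [Pi.add_apply]
  ring

/-- the forms -/
def qa (a : V8) (v : V8) : ZMod 2 := q0 v + sf a v

set_option maxRecDepth 100000 in
theorem card_q0 : (Finset.univ.filter fun a : V8 => q0 a = 0).card = 136 := by decide +kernel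

set_option maxRecDepth 100000 in
theorem card_q1 : (Finset.univ.filter fun a : V8 => q0 a = 1).card = 120 := by decide +kernel

/-- polarising to `sf` -/
def Pol (q : V8 → ZMod 2) : Prop := ∀ u v, q (u + v) = q u + q v + sf u v

theorem pol_qa (a : V8) : Pol (qa a) := by
  intro u v
  rw [qa, qa, qa, q0_add, sf_add_right]
  ring

/-- an additive function vanishing on the basis -/
theorem add_zero_of_basis {g : V8 → ZMod 2} (hg : ∀ u v, g (u + v) = g u + g v)
    (h : ∀ i, g (Pi.single i 1) = 0) (v : V8) : g v = 0 := by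
  let G : V8 →+ ZMod 2 := AddMonoidHom.mk' g hg
  have hG : G.toZModLinearMap 2 = 0 := by
    apply LinearMap.pi_ext'
    intro i
    apply LinearMap.ext_ring
    exact h i
  exact LinearMap.congr_fun hG v

theorem eq_qa {q : V8 → ZMod 2} (h : Pol q) : ∃ a, q = qa a := by
  refine ⟨Sum.elim (fun i => q (Pi.single (Sum.inr i) 1)) (fun i => q (Pi.single (Sum.inl i) 1)), ?_⟩
  funext v
  have key : ∀ v, q v + qa (Sum.elim (fun i => q (Pi.single (Sum.inr i) 1))
      (fun i => q (Pi.single (Sum.inl i) 1))) v = 0 := by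
    apply add_zero_of_basis
    · intro u v
      rw [h, pol_qa]
      have : sf u v + sf u v = 0 := CharTwo.add_self_eq_zero _
      linear_combination this
    · intro i
      have e : ∀ j, q0 (Pi.single j 1 : V8) = 0 := by decide
      rw [qa, e, zero_add]
      rcases i with i | i
      · have : sf (Sum.elim (fun i => q (Pi.single (Sum.inr i) 1)) (fun i => q (Pi.single (Sum.inl i) 1)))
            (Pi.single (Sum.inl i) 1) = q (Pi.single (Sum.inl i) 1) := by
          rw [sf, Finset.sum_eq_single i]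
          · simp
          · intro j _ hj
            simp [hj]
          · simp
        rw [this]
        exact CharTwo.add_self_eq_zero _
      · have : sf (Sum.elim (fun i => q (Pi.single (Sum.inr i) 1)) (fun i => q (Pi.single (Sum.inl i) 1)))
            (Pi.single (Sum.inr i) 1) = q (Pi.single (Sum.inr i) 1) := by
          rw [sf, Finset.sum_eq_single i]
          · simp
          · intro j _ hj
            simp [hj]
          · simp
        rw [this]
        exact CharTwo.add_self_eq_zero _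
  have := key v
  rwa [CharTwo.add_eq_zero] at this

theorem qa_injective : Function.Injective qa := by
  intro a b h
  have h1 : a + b = 0 := by
    apply eq_zero_of_sf
    intro v
    have := congrFun h v
    rw [qa, qa] at this
    rw [sf_add_left, add_left_cancel this]
    exact CharTwo.add_self_eq_zero _
  funext i
  have := congrFun h1 i
  rwa [Pi.add_apply, Pi.zero_apply, CharTwo.add_eq_zero] at this

theorem qa_eq (a v : V8) : qa a v = q0 (v + a) + q0 a := by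
  rw [qa, q0_add, sf_comm v a]
  have : q0 a + q0 a = 0 := CharTwo.add_self_eq_zero _
  linear_combination -this

theorem zeros_qa (a : V8) : (Finset.univ.filter fun v => qa a v = 0).card = 136 ↔ q0 a = 0 := by
  have h1 : (Finset.univ.filter fun v => qa a v = 0).card = (Finset.univ.filter fun v => q0 v = q0 a).card := by
    apply Finset.card_bij (fun v _ => v + a)
    · intro v hv
      rw [Finset.mem_filter] at hv ⊢
      refine ⟨Finset.mem_univ _, ?_⟩
      rw [← CharTwo.add_eq_zero, ← qa_eq]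
      exact hv.2
    · intro u _ v _ h
      exact add_right_cancel h
    · intro v hv
      rw [Finset.mem_filter] at hv
      refine ⟨v + a, ?_, ?_⟩
      · rw [Finset.mem_filter]
        refine ⟨Finset.mem_univ _, ?_⟩
        rw [qa_eq, CharTwo.add_eq_zero, add_assoc, CharTwo.add_self_eq_zero, add_zero]
        exact hv.2
      · rw [add_assoc, CharTwo.add_self_eq_zero, add_zero]
  rw [h1]
  have h2 : q0 a = 0 ∨ q0 a = 1 := (by decide : ∀ x : ZMod 2, x = 0 ∨ x = 1) _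
  rcases h2 with h | h
  · rw [h, card_q0]
    simp
  · rw [h, card_q1]
    constructor
    · intro h
      norm_num at h
    · intro h
      exact absurd h (by decide)

/-- the forms of plus type -/
structure XX where
  /-- the form -/
  q : V8 → ZMod 2
  pol : Pol q
  zeros : (Finset.univ.filter fun v => q v = 0).card = 136

theorem XX.ext' {x y : XX} (h : ∀ v, x.q v = y.q v) : x = y := by
  obtain ⟨q, h1, h2⟩ := x
  obtain ⟨r, h3, h4⟩ := y
  obtain rfl : q = r := funext h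
  rfl

instance : Finite XX := Finite.of_injective XX.q fun _ _ h => XX.ext' fun v => congrFun h v

/-- the forms of plus type correspond to the singular vectors of `q0` -/
noncomputable def eXX : {a : V8 // q0 a = 0} ≃ XX :=
  Equiv.ofBijective (fun a => ⟨qa a, pol_qa a, (zeros_qa a).2 a.2⟩) ⟨fun a b h => Subtype.ext (qa_injective
    (congrArg XX.q h)), fun x => by
      obtain ⟨a, ha⟩ := eq_qa x.pol
      refine ⟨⟨a, (zeros_qa a).1 ?_⟩, XX.ext' fun v => (congrFun ha v).symm⟩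
      rw [← ha]
      exact x.zeros⟩

theorem card_XX : Nat.card XX = 136 := by
  rw [← Nat.card_congr eXX, Nat.card_eq_fintype_card, Fintype.card_subtype]
  exact card_q0

theorem mul_inv_mulVec (A : G8) (v : V8) : (A : M8) *ᵥ (((A⁻¹ : G8) : M8) *ᵥ v) = v := by
  rw [Matrix.mulVec_mulVec, ← Submonoid.coe_mul, mul_inv_cancel, OneMemClass.coe_one, Matrix.one_mulVec]

theorem inv_mul_mulVec (A : G8) (v : V8) : ((A⁻¹ : G8) : M8) *ᵥ ((A : M8) *ᵥ v) = v := by
  rw [Matrix.mulVec_mulVec, ← Submonoid.coe_mul, inv_mul_cancel, OneMemClass.coe_one, Matrix.one_mulVec]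

/-- the action on the forms -/
def actXX (A : G8) (x : XX) : XX where
  q v := x.q (((A⁻¹ : G8) : M8) *ᵥ v)
  pol := by
    intro u v
    change x.q (((A⁻¹ : G8) : M8) *ᵥ (u + v)) = x.q (((A⁻¹ : G8) : M8) *ᵥ u) + x.q (((A⁻¹ : G8) : M8) *ᵥ v) + sf u v
    rw [Matrix.mulVec_add, x.pol, sf_mulVec]
  zeros := by
    rw [← x.zeros]
    apply Finset.card_bij (fun v _ => ((A⁻¹ : G8) : M8) *ᵥ v)
    · intro v hv
      rw [Finset.mem_filter] at hv ⊢
      exact ⟨Finset.mem_univ _, hv.2⟩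
    · intro u _ v _ h
      rw [← mul_inv_mulVec A u, h, mul_inv_mulVec]
    · intro v hv
      rw [Finset.mem_filter] at hv
      refine ⟨(A : M8) *ᵥ v, ?_, inv_mul_mulVec A v⟩
      rw [Finset.mem_filter, inv_mul_mulVec]
      exact ⟨Finset.mem_univ _, hv.2⟩

instance : MulAction G8 XX where
  smul := actXX
  one_smul x := by
    apply XX.ext'
    intro v
    change x.q (((1⁻¹ : G8) : M8) *ᵥ v) = x.q v
    rw [inv_one, OneMemClass.coe_one, Matrix.one_mulVec]
  mul_smul A B x := by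
    apply XX.ext'
    intro v
    change x.q ((((A * B)⁻¹ : G8) : M8) *ᵥ v) = x.q (((B⁻¹ : G8) : M8) *ᵥ (((A⁻¹ : G8) : M8) *ᵥ v))
    rw [mul_inv_rev, Submonoid.coe_mul, Matrix.mulVec_mulVec]

theorem smul_XX (A : G8) (x : XX) (v : V8) : (A • x).q v = x.q (((A⁻¹ : G8) : M8) *ᵥ v) := rfl

theorem smul_eq_iff (A : G8) (x : XX) : A • x = x ↔ ∀ v, x.q ((A : M8) *ᵥ v) = x.q v := by
  constructor
  · intro h v
    have := congrArg (fun x : XX => x.q ((A : M8) *ᵥ v)) h
    simp only [smul_XX, inv_mul_mulVec] at this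
    exact this.symm
  · intro h
    apply XX.ext'
    intro v
    rw [smul_XX, ← h, mul_inv_mulVec]

/-- the number of fixed forms -/
noncomputable def nfix (A : G8) : ℕ := Nat.card {x : XX // A • x = x}

theorem nfix_conj (A B : G8) : nfix (B * A * B⁻¹) = nfix A := by
  refine Nat.card_congr ⟨fun q => ⟨B⁻¹ • q.1, ?_⟩, fun q => ⟨B • q.1, ?_⟩, fun q => Subtype.ext (smul_inv_smul B q.1),
    fun q => Subtype.ext (inv_smul_smul B q.1)⟩
  · have h := q.2
    rw [mul_smul, mul_smul] at h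
    exact eq_inv_smul_iff.2 h
  · have h := q.2
    rw [mul_smul, mul_smul, inv_smul_smul, h]

/-- the number of fixed forms as a finite count -/
theorem nfix_eq (A : G8) : nfix A = (Finset.univ.filter fun a : V8 => q0 a = 0 ∧
    ∀ i, qa a ((A : M8) *ᵥ Pi.single i 1) = qa a (Pi.single i 1)).card := by
  have h1 : nfix A = Nat.card {a : {a : V8 // q0 a = 0} // A • eXX a = eXX a} :=
    Nat.card_congr (Equiv.subtypeEquiv eXX.symm fun q => by rw [Equiv.apply_symm_apply])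
  have h2 : ∀ a : {a : V8 // q0 a = 0}, A • eXX a = eXX a ↔
      ∀ i, qa a ((A : M8) *ᵥ Pi.single i 1) = qa a (Pi.single i 1) := by
    intro a
    rw [smul_eq_iff]
    constructor
    · intro h i
      exact h _
    · intro h v
      have key : ∀ v, qa a ((A : M8) *ᵥ v) + qa a v = 0 := by
        apply add_zero_of_basis
        · intro u v
          rw [Matrix.mulVec_add, pol_qa, pol_qa, sf_mulVec]
          have : sf u v + sf u v = 0 := CharTwo.add_self_eq_zero _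
          linear_combination this
        · intro i
          rw [h i]
          exact CharTwo.add_self_eq_zero _
      have := key v
      rwa [CharTwo.add_eq_zero] at this
  rw [h1, Nat.card_congr (Equiv.subtypeEquivRight h2), Nat.card_congr (Equiv.subtypeSubtypeEquivSubtypeInter
    (fun a : V8 => q0 a = 0) (fun a => ∀ i, qa a ((A : M8) *ᵥ Pi.single i 1) = qa a (Pi.single i 1))),
    Nat.card_eq_fintype_card, Fintype.card_subtype]

/-- the difference of two forms -/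
theorem exists_diff {q q' : XX} (h : q ≠ q') : ∃ a : V8, a ≠ 0 ∧ ∀ A : G8, A • q = q → A • q' = q' → (A : M8) *ᵥ a = a := by
  obtain ⟨b, hb⟩ := eq_qa q.pol
  obtain ⟨c, hc⟩ := eq_qa q'.pol
  refine ⟨b + c, fun h0 => h ?_, fun A h1 h2 => ?_⟩
  · have : b = c := by
      funext i
      have := congrFun h0 i
      rwa [Pi.add_apply, Pi.zero_apply, CharTwo.add_eq_zero] at this
    apply XX.ext'
    intro v
    rw [hb, hc, this]
  · rw [smul_eq_iff] at h1 h2
    have h3 : ∀ v, sf (b + c) ((A : M8) *ᵥ v) = sf (b + c) v := by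
      intro v
      have h4 := h1 v
      have h5 := h2 v
      rw [hb, qa, qa] at h4
      rw [hc, qa, qa] at h5
      rw [sf_add_left, sf_add_left]
      have e : (q0 ((A : M8) *ᵥ v) + sf b ((A : M8) *ᵥ v)) + (q0 ((A : M8) *ᵥ v) + sf c ((A : M8) *ᵥ v)) =
          (q0 v + sf b v) + (q0 v + sf c v) := by rw [h4, h5]
      have e1 : q0 ((A : M8) *ᵥ v) + q0 ((A : M8) *ᵥ v) = 0 := CharTwo.add_self_eq_zero _
      have e2 : q0 v + q0 v = 0 := CharTwo.add_self_eq_zero _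
      linear_combination e - e1 + e2
    have h4 : (A : M8) *ᵥ (b + c) + (b + c) = 0 := by
      apply eq_zero_of_sf
      intro v
      have h5 : sf ((A : M8) *ᵥ (b + c)) v = sf (b + c) v := by
        conv_lhs => rw [← mul_inv_mulVec A v]
        rw [sf_mulVec, ← h3, mul_inv_mulVec]
      rw [sf_add_left, h5]
      exact CharTwo.add_self_eq_zero _
    funext i
    have := congrFun h4 i
    rwa [Pi.add_apply, Pi.zero_apply, CharTwo.add_eq_zero] at this

end Cfsg.Agent.H901.Der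
end

private theorem dce_b58d0fcf0dde : _root_.True := by
  try have : _root_.True := by simp only [_root_.Cfsg.Agent.H901.Der.q0.eq_1]
  try have : _root_.True := by simp only [_root_.Cfsg.Agent.H901.Der.sf.eq_1]
  try have : _root_.True := by simp only [_root_.Cfsg.Agent.H901.Der.qa.eq_1]
  exact _root_.True.intro
end

-- part: H901/Der/SpEightC
section
set_option linter.all false
open scoped Cfsg.Agent.FastGrp

/-!
# Subgroups of `Sp₈(2)` of order prime to `17` (S3502)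

`sp8_contra` : no such subgroup meets the four classes of the elements `y` (order `5`), `u` (order `21`), `g` (order `9`)
and `z` (order `15`); by the orbits on the `136` quadratic forms of plus type.
-/

set_option autoImplicit false
set_option linter.unusedSectionVars false

namespace Cfsg.Agent.H901.Der

open Module Cfsg Cfsg.Agent.ClassicalGeometry.SympBasic Cfsg.Agent.H876 Cfsg.Agent.H931 Cfsg.Agent.H262.El
open scoped Matrix MatrixGroups

section count

variable {G X : Type*} [Group G] [MulAction G X] [Finite X]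

/-- fixed points modulo a prime -/
theorem ncard_mod {h : G} {S : Set X} (hS : ∀ x ∈ S, h • x ∈ S) {r : ℕ} (hr : r.Prime)
    (hrS : ∀ x ∈ S, h ^ r • x = x) : S.ncard ≡ {x | x ∈ S ∧ h • x = x}.ncard [MOD r] := by
  classical
  have := Fact.mk hr
  let f : Function.End S := fun x => ⟨h • (x : X), hS x x.2⟩
  have hf : ∀ k : ℕ, ∀ x : S, (((f ^ k) x : S) : X) = h ^ k • (x : X) := by
    intro k
    induction k with
    | zero => intro x; simp; rfl
    | succ k ih =>
      intro x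
      rw [pow_succ]
      change (((f ^ k) (f x) : S) : X) = _
      rw [ih, pow_succ, mul_smul]
  have h1 : f ^ r ^ 1 = 1 := by
    rw [pow_one]
    funext x
    exact Subtype.ext (by rw [hf, hrS x x.2]; rfl)
  have hfin : Finite S := Subtype.finite
  have : Fintype S := Fintype.ofFinite S
  have h2 := Equiv.Perm.card_fixedPoints_modEq h1
  rw [← Nat.card_eq_fintype_card, ← Nat.card_eq_fintype_card] at h2
  rw [← Nat.card_coe_set_eq, ← Nat.card_coe_set_eq]
  have e : (f.fixedPoints) ≃ {x | x ∈ S ∧ h • x = x} :=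
    ⟨fun x => ⟨x.1.1, x.1.2, congrArg Subtype.val x.2⟩, fun x => ⟨⟨x.1, x.2.1⟩, Subtype.ext x.2.2⟩,
      fun x => rfl, fun x => rfl⟩
  rw [← Nat.card_congr e]
  exact h2

/-- free actions -/
theorem card_dvd_free {D α : Type*} [Group D] [Finite D] [Finite α] [MulAction D α]
    (h : ∀ (d : D) (x : α), d • x = x → d = 1) : Nat.card D ∣ Nat.card α := by
  classical
  have : Fintype α := Fintype.ofFinite α
  have : Fintype D := Fintype.ofFinite D
  have e := MulAction.selfEquivSigmaOrbits D α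
  have h1 : ∀ x : α, Nat.card (MulAction.orbit D x) = Nat.card D := by
    intro x
    have h2 := MulAction.orbitEquivQuotientStabilizer D x
    rw [Nat.card_congr h2]
    have h3 : MulAction.stabilizer D x = ⊥ := by
      rw [eq_bot_iff]
      intro d hd
      exact Subgroup.mem_bot.mpr (h d x hd)
    rw [h3]
    exact Nat.card_congr (QuotientGroup.quotientBot (G := D)).toEquiv
  rw [Nat.card_congr e, Nat.card_sigma]
  exact Finset.dvd_sum fun ω _ => by rw [h1]

/-- cycles of length nine -/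
theorem nine_dvd {h : G} {S : Set X} (hS : ∀ x ∈ S, h • x ∈ S) (h9 : h ^ 9 = 1)
    (hfree : ∀ x ∈ S, h ^ 3 • x ≠ x) : 9 ∣ S.ncard := by
  classical
  rcases S.eq_empty_or_nonempty with rfl | ⟨x₀, hx₀⟩
  · rw [Set.ncard_empty]; exact dvd_zero 9
  have h3 : h ^ 3 ≠ 1 := fun e => hfree x₀ hx₀ (by rw [e, one_smul])
  have ho : orderOf h = 9 := by
    have h1 : orderOf h ∣ 3 ^ 2 := orderOf_dvd_of_pow_eq_one h9
    obtain ⟨k, hk, hk'⟩ := (Nat.dvd_prime_pow Nat.prime_three).1 h1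
    interval_cases k
    · exact absurd (by rw [pow_zero] at hk'; rw [orderOf_eq_one_iff.1 hk', one_pow]) h3
    · exact absurd (orderOf_dvd_iff_pow_eq_one.1 (by rw [hk', pow_one])) h3
    · exact hk'
  have hz : ∀ (k : ℤ), ∀ x ∈ S, h ^ k • x ∈ S := by
    have hn : ∀ (k : ℕ), ∀ x ∈ S, h ^ k • x ∈ S := by
      intro k
      induction k with
      | zero => intro x hx; rwa [pow_zero, one_smul]
      | succ k ih => intro x hx; rw [pow_succ, mul_smul]; exact ih _ (hS x hx)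
    intro k x hx
    have h1 : h ^ k ∈ Subgroup.zpowers h := ⟨k, rfl⟩
    have h2 : IsOfFinOrder h := by rw [← orderOf_pos_iff, ho]; norm_num
    rw [h2.mem_zpowers_iff_mem_range_orderOf] at h1
    obtain ⟨n, -, hn'⟩ := Finset.mem_image.1 h1
    rw [← hn']
    exact hn n x hx
  let act : MulAction (Subgroup.zpowers h) S :=
    { smul := fun d x => ⟨(d : G) • (x : X), by
        obtain ⟨k, hk⟩ := d.2
        rw [← hk]
        exact hz k x x.2⟩
      one_smul := fun x => Subtype.ext (one_smul G (x : X))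
      mul_smul := fun a b x => Subtype.ext (mul_smul (a : G) (b : G) (x : X)) }
  have hfC : Finite (Subgroup.zpowers h) := by
    apply Nat.finite_of_card_ne_zero
    rw [Nat.card_zpowers, ho]
    norm_num
  have key := card_dvd_free (D := Subgroup.zpowers h) (α := S) ?_
  · rw [Nat.card_zpowers, ho, Nat.card_coe_set_eq] at key
    exact key
  · rintro ⟨d, k, rfl⟩ x hx
    have hx' : h ^ k • (x : X) = x := congrArg Subtype.val hx
    apply Subtype.ext
    change h ^ k = 1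
    by_contra hne
    -- the integers `n` with `h ^ n x = x`
    have hmulz : ∀ a : ℤ, h ^ (k * a) • (x : X) = x := by
      intro a
      rw [zpow_mul]
      have : h ^ k ∈ MulAction.stabilizer G (x : X) := hx'
      exact Subgroup.zpow_mem _ this a
    have hg : (Int.gcd k 9 : ℕ) ∣ 3 := by
      have h1 : Int.gcd k 9 ∣ 3 ^ 2 := by
        have := Int.gcd_dvd_natAbs_right k 9
        simpa using this
      obtain ⟨j, hj, hj'⟩ := (Nat.dvd_prime_pow Nat.prime_three).1 h1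
      interval_cases j
      · rw [hj']; norm_num
      · rw [hj']; norm_num
      · exfalso
        apply hne
        have h2 : (9 : ℤ) ∣ k := by
          have := Int.gcd_dvd_left (a := k) (b := 9)
          rw [hj'] at this
          simpa using this
        obtain ⟨c, rfl⟩ := h2
        rw [zpow_mul, show h ^ (9 : ℤ) = 1 by exact_mod_cast h9, one_zpow]
    obtain ⟨a, b, hab⟩ := Int.gcd_dvd_iff.1 hg
    apply hfree x x.2
    have h2 : h ^ 3 = h ^ (k * a) := by
      have e : ((3 : ℕ) : ℤ) = k * a + 9 * b := hab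
      rw [← zpow_natCast, e, zpow_add, zpow_mul h 9 b, show h ^ (9 : ℤ) = 1 by exact_mod_cast h9, one_zpow, mul_one]
    rw [h2]
    exact hmulz a

/-- the orbit count -/
theorem count_orbits {G X : Type*} [Group G] [Finite G] [MulAction G X] [Finite X] (hX : Nat.card X = 136)
    (h13 : ¬ 13 ∣ Nat.card G) (h17 : ¬ 17 ∣ Nat.card G) {y u g z : G}
    (hy : y ^ 5 = 1) (hyn : {x : X | y • x = x}.ncard = 1)
    (hu : u ^ 21 = 1) (hun : {x : X | u • x = x}.ncard = 0) (hu3n : {x : X | u ^ 3 • x = x}.ncard = 3)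
    (hg : g ^ 9 = 1) (hg3n : {x : X | g ^ 3 • x = x}.ncard = 1)
    (hz : z ^ 15 = 1) (hzn : {x : X | z • x = x}.ncard = 0) (hz5n : {x : X | z ^ 5 • x = x}.ncard = 10) :
    ∃ D : Set X, (∀ (h : G), ∀ x ∈ D, h • x ∈ D) ∧ D.ncard = 10 ∧ ∀ x ∈ D, z ^ 5 • x = x := by
  classical
  have hle' : ∀ (A : G) (S : Set X), {x | x ∈ S ∧ A • x = x}.ncard ≤ {x : X | A • x = x}.ncard := fun A S =>
    Set.ncard_le_ncard (fun x hx => hx.2) (Set.toFinite _)
  -- the fixed form of `y`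
  obtain ⟨x₀, hx₀⟩ : ∃ x : X, y • x = x := by
    have h1 : {x : X | y • x = x}.Nonempty := by
      rw [← Set.ncard_pos, hyn]
      norm_num
    exact h1
  set O : Set X := MulAction.orbit G x₀ with hO
  have hOinv : ∀ h : G, ∀ x ∈ O, h • x ∈ O := fun h x hx => MulAction.mem_orbit_of_mem_orbit h hx
  have hOcard : O.ncard ∣ Nat.card G := by
    rw [← Nat.card_coe_set_eq, Nat.card_congr (MulAction.orbitEquivQuotientStabilizer G x₀)]
    exact Subgroup.card_quotient_dvd_card _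
  have hle : O.ncard ≤ 136 := by
    rw [← hX, ← Set.ncard_univ]
    exact Set.ncard_le_ncard (Set.subset_univ O) (Set.toFinite _)
  -- `y`
  have e1 : O.ncard ≡ 1 [MOD 5] := by
    have h1 := ncard_mod (h := y) (S := O) (hOinv y) (r := 5) (by norm_num) fun x _ => by rw [hy, one_smul]
    have h2 : {x | x ∈ O ∧ y • x = x}.ncard = 1 := by
      apply le_antisymm
      · rw [← hyn]
        exact hle' y O
      · rw [Nat.one_le_iff_ne_zero, ← Nat.pos_iff_ne_zero, Set.ncard_pos]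
        exact ⟨x₀, MulAction.mem_orbit_self x₀, hx₀⟩
    rwa [h2] at h1
  -- `u`
  have e2 : O.ncard % 7 = 0 ∨ O.ncard % 7 = 3 := by
    have h1 := ncard_mod (h := u ^ 3) (S := O) (hOinv _) (r := 7) (by norm_num)
      fun x _ => by rw [← pow_mul, hu, one_smul]
    have h2 : {x | x ∈ O ∧ u ^ 3 • x = x}.ncard ≤ 3 := (hle' (u ^ 3) O).trans hu3n.le
    have h3 := ncard_mod (h := u) (S := {x | x ∈ O ∧ u ^ 3 • x = x}) (fun x hx => ⟨hOinv u x hx.1, by
        rw [← mul_smul, ← pow_succ, pow_succ', mul_smul, hx.2]⟩) (r := 3) (by norm_num) fun x hx => hx.2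
    have h4 : {x | x ∈ {x | x ∈ O ∧ u ^ 3 • x = x} ∧ u • x = x}.ncard = 0 := by
      rw [← Nat.le_zero, ← hun]
      exact hle' u {x | x ∈ O ∧ u ^ 3 • x = x}
    rw [h4] at h3
    unfold Nat.ModEq at h1 h3
    have h5 : {x | x ∈ O ∧ u ^ 3 • x = x}.ncard = 0 ∨ {x | x ∈ O ∧ u ^ 3 • x = x}.ncard = 3 := by omega
    rcases h5 with h5 | h5
    · rw [h5] at h1
      exact Or.inl h1
    · rw [h5] at h1
      exact Or.inr h1
  -- `g`
  have e3 : O.ncard % 9 = 0 ∨ O.ncard % 9 = 1 := by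
    have h1 := nine_dvd (h := g) (S := {x | x ∈ O ∧ g ^ 3 • x ≠ x}) (fun x hx => ⟨hOinv g x hx.1, fun h => hx.2 (by
      have h2 : g • (g ^ 3 • x) = g • x := by rw [← mul_smul, ← pow_succ', pow_succ, mul_smul, h]
      exact smul_left_cancel g h2)⟩) hg fun x hx => hx.2
    have h2 : {x | x ∈ O ∧ g ^ 3 • x = x}.ncard ≤ 1 := (hle' (g ^ 3) O).trans hg3n.le
    have h3 : O.ncard = {x | x ∈ O ∧ g ^ 3 • x = x}.ncard + {x | x ∈ O ∧ g ^ 3 • x ≠ x}.ncard := by
      rw [← Set.ncard_union_eq]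
      · congr 1
        ext x
        simp only [Set.mem_union, Set.mem_ofPred_eq]
        (clear * -; tauto)
      · rw [Set.disjoint_left]
        exact fun x hx hx' => hx'.2 hx.2
    (clear * - h1 h2 h3; omega)
  have hO126 : O.ncard = 126 := by
    have h1 : ¬ 13 ∣ O.ncard := fun h => h13 (h.trans hOcard)
    have h2 : ¬ 17 ∣ O.ncard := fun h => h17 (h.trans hOcard)
    unfold Nat.ModEq at e1
    (clear * - hle e1 e2 e3 h1 h2; omega)
  -- `z`
  have e4 : {x | x ∈ O ∧ z ^ 5 • x = x}.ncard = 0 := by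
    have h1 := ncard_mod (h := z ^ 5) (S := O) (hOinv _) (r := 3) (by norm_num)
      fun x _ => by rw [← pow_mul, hz, one_smul]
    have h2 : {x | x ∈ O ∧ z ^ 5 • x = x}.ncard ≤ 10 := (hle' (z ^ 5) O).trans hz5n.le
    have h3 := ncard_mod (h := z) (S := {x | x ∈ O ∧ z ^ 5 • x = x}) (fun x hx => ⟨hOinv z x hx.1, by
        rw [← mul_smul, ← pow_succ, pow_succ', mul_smul, hx.2]⟩) (r := 5) (by norm_num) fun x hx => hx.2
    have h4 : {x | x ∈ {x | x ∈ O ∧ z ^ 5 • x = x} ∧ z • x = x}.ncard = 0 := by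
      rw [← Nat.le_zero, ← hzn]
      exact hle' z {x | x ∈ O ∧ z ^ 5 • x = x}
    rw [h4] at h3
    rw [hO126] at h1
    unfold Nat.ModEq at h1 h3
    (clear * - h1 h2 h3; omega)
  have hDcard : (Oᶜ).ncard = 10 := by
    have := Set.ncard_add_ncard_compl O
    rw [hO126, hX] at this
    omega
  have hDz : {x : X | z ^ 5 • x = x} = Oᶜ := by
    apply Set.eq_of_subset_of_ncard_le
    · intro x hx hxO
      have h1 : {x | x ∈ O ∧ z ^ 5 • x = x} = ∅ := by rwa [Set.ncard_eq_zero] at e4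
      have h2 : x ∈ {x | x ∈ O ∧ z ^ 5 • x = x} := ⟨hxO, hx⟩
      rw [h1] at h2
      exact h2
    · rw [hDcard, hz5n]
    · exact Set.toFinite _
  refine ⟨Oᶜ, fun h x hx hhx => hx ?_, hDcard, fun x hx => by rw [← hDz] at hx; exact hx⟩
  have := hOinv h⁻¹ _ hhx
  rwa [inv_smul_smul] at this

end count

section irr

theorem od2_5 : Od 2 4 5 := ⟨by norm_num, by
  rw [orderOf_eq_iff (by norm_num)]
  refine ⟨by decide, fun m hm hm0 => ?_⟩
  interval_cases m <;> decide, by norm_num⟩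

theorem od2_7 : Od 2 3 7 := ⟨by norm_num, by
  rw [orderOf_eq_iff (by norm_num)]
  refine ⟨by decide, fun m hm hm0 => ?_⟩
  interval_cases m <;> decide, by norm_num⟩

theorem sp8_irr {y u : G8} (hy : y ^ 5 = 1) (hyf : ∀ v, (y : M8) *ᵥ v = v → v = 0) (hu : u ^ 21 = 1)
    (hu3 : u ^ 3 ≠ 1) (huf : ∀ v, (u : M8) *ᵥ v = v → v = 0) (W : Submodule (ZMod 2) V8)
    (hWy : ∀ v ∈ W, (y : M8) *ᵥ v ∈ W) (hWu : ∀ v ∈ W, (u : M8) *ᵥ v ∈ W) : W = ⊥ ∨ W = ⊤ := by
  have hc : Fintype.card (Fin 4 ⊕ Fin 4) = 8 := by simp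
  have h5 : Od (Fintype.card (ZMod 2)) 4 5 := by rw [ZMod.card]; exact od2_5
  have h7 : Od (Fintype.card (ZMod 2)) 3 7 := by rw [ZMod.card]; exact od2_7
  have hfy : fixS (spToGL 4 (ZMod 2) y) = ⊥ := by
    rw [eq_bot_iff]
    intro v hv
    exact hyf v ((mem_fixS.1 hv :))
  have h1 : 4 ∣ finrank (ZMod 2) W - finrank (ZMod 2) (W ⊓ fixS (spToGL 4 (ZMod 2) y) : Submodule (ZMod 2) V8) :=
    finrank_inv h5 (x := spToGL 4 (ZMod 2) y) (by rw [← map_pow, hy, map_one]) W hWy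
  rw [hfy, inf_bot_eq, finrank_bot, Nat.sub_zero] at h1
  have hx : (spToGL 4 (ZMod 2) (u ^ 3)) ^ 7 = 1 := by rw [← map_pow, ← pow_mul, hu, map_one]
  have hx1 : spToGL 4 (ZMod 2) (u ^ 3) ≠ 1 := fun e => hu3 (spToGL_injective (by rw [e, map_one]))
  have h2 : 3 ∣ Fintype.card (Fin 4 ⊕ Fin 4) - finrank (ZMod 2) (fixS (spToGL 4 (ZMod 2) (u ^ 3))) := finrank_fixS h7 hx
  have h3 : finrank (ZMod 2) (fixS (spToGL 4 (ZMod 2) (u ^ 3))) < Fintype.card (Fin 4 ⊕ Fin 4) := finrank_fixS_lt hx1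
  have h4 : Even (finrank (ZMod 2) (fixS (spToGL 4 (ZMod 2) (u ^ 3)))) :=
    even_fixS (spToGL_mem _) (r := 7) (by decide) hx
  rw [hc] at h2 h3
  have h6 : finrank (ZMod 2) (fixS (spToGL 4 (ZMod 2) (u ^ 3))) = 2 := by
    obtain ⟨k, hk⟩ := h4
    omega
  have hWx : ∀ v ∈ W, ((spToGL 4 (ZMod 2) (u ^ 3) : GL (Fin 4 ⊕ Fin 4) (ZMod 2)) : M8) *ᵥ v ∈ W := by
    intro v hv
    have e : ((spToGL 4 (ZMod 2) (u ^ 3) : GL (Fin 4 ⊕ Fin 4) (ZMod 2)) : M8) *ᵥ v =
        (u : M8) *ᵥ ((u : M8) *ᵥ ((u : M8) *ᵥ v)) := by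
      rw [coe_spToGL, pow_succ, pow_succ, pow_one, Submonoid.coe_mul, Submonoid.coe_mul, Matrix.mulVec_mulVec,
        Matrix.mulVec_mulVec, mul_assoc]
    rw [e]
    exact hWu _ (hWu _ (hWu _ hv))
  have h8 : 3 ∣ finrank (ZMod 2) W - finrank (ZMod 2) (W ⊓ fixS (spToGL 4 (ZMod 2) (u ^ 3)) : Submodule (ZMod 2) V8) :=
    finrank_inv h7 hx W hWx
  have h9 : finrank (ZMod 2) (W ⊓ fixS (spToGL 4 (ZMod 2) (u ^ 3)) : Submodule (ZMod 2) V8) ≤ 2 :=
    (Submodule.finrank_mono inf_le_right).trans h6.le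
  have h10 : finrank (ZMod 2) (W ⊓ fixS (spToGL 4 (ZMod 2) (u ^ 3)) : Submodule (ZMod 2) V8) ≤ finrank (ZMod 2) W :=
    Submodule.finrank_mono inf_le_left
  have h11 : finrank (ZMod 2) W ≤ 8 := by
    have := Submodule.finrank_le W
    rwa [Module.finrank_fintype_fun_eq_card, hc] at this
  have h12 : finrank (ZMod 2) W = 0 ∨ finrank (ZMod 2) W = 8 ∨
      finrank (ZMod 2) (W ⊓ fixS (spToGL 4 (ZMod 2) (u ^ 3)) : Submodule (ZMod 2) V8) = 1 := by
    obtain ⟨k, hk⟩ := h1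
    have hk2 : k ≤ 2 := by omega
    interval_cases k
    · exact Or.inl (by omega)
    · exact Or.inr (Or.inr (by omega))
    · exact Or.inr (Or.inl (by omega))
  rcases h12 with h | h | h
  · exact Or.inl (Submodule.finrank_eq_zero.1 h)
  · refine Or.inr (Submodule.eq_top_of_finrank_eq ?_)
    rw [h, Module.finrank_fintype_fun_eq_card, hc]
  · exfalso
    obtain ⟨d, hd0, hd⟩ := finrank_eq_one_iff'.1 h
    have hdW : (d : V8) ∈ W ⊓ fixS (spToGL 4 (ZMod 2) (u ^ 3)) := d.2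
    have hud : (u : M8) *ᵥ (d : V8) ∈ W ⊓ fixS (spToGL 4 (ZMod 2) (u ^ 3)) := by
      refine ⟨hWu _ hdW.1, ?_⟩
      have h13 := mem_fixS.1 hdW.2
      refine mem_fixS.2 ?_
      rw [coe_spToGL] at h13 ⊢
      rw [Matrix.mulVec_mulVec, ← Submonoid.coe_mul, ← pow_succ, pow_succ', Submonoid.coe_mul, ← Matrix.mulVec_mulVec,
        h13]
    obtain ⟨c, hc'⟩ := hd ⟨_, hud⟩
    have hc2 : c • (d : V8) = (u : M8) *ᵥ (d : V8) := congrArg Subtype.val hc'
    have hc01 : c = 0 ∨ c = 1 := (by decide : ∀ x : ZMod 2, x = 0 ∨ x = 1) c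
    rcases hc01 with rfl | rfl
    · rw [zero_smul] at hc2
      apply hd0
      apply Subtype.ext
      have := inv_mul_mulVec u (d : V8)
      rw [← hc2, Matrix.mulVec_zero] at this
      exact this.symm
    · rw [one_smul] at hc2
      exact hd0 (Subtype.ext (huf _ hc2.symm))

end irr

section main

theorem nfix_eq_ncard (A : G8) : nfix A = {x : XX | A • x = x}.ncard := Nat.card_coe_set_eq _

/-- **No subgroup of order prime to `17` meets the four classes.** -/
theorem sp8_contra {H : Subgroup G8} (h13 : ¬ 13 ∣ Nat.card H) (h17 : ¬ 17 ∣ Nat.card H) {y u g z : G8}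
    (hyH : y ∈ H) (huH : u ∈ H) (hgH : g ∈ H) (hzH : z ∈ H)
    (hy : y ^ 5 = 1) (hyf : ∀ v, (y : M8) *ᵥ v = v → v = 0) (hyn : nfix y = 1)
    (hu : u ^ 21 = 1) (hu3 : u ^ 3 ≠ 1) (huf : ∀ v, (u : M8) *ᵥ v = v → v = 0) (hun : nfix u = 0)
    (hu3n : nfix (u ^ 3) = 3) (hg : g ^ 9 = 1) (hg3n : nfix (g ^ 3) = 1)
    (hz : z ^ 15 = 1) (hz5 : z ^ 5 ≠ 1) (hzn : nfix z = 0) (hz5n : nfix (z ^ 5) = 10) : False := by
  have hfinG : Finite G8 := Finite.of_injective (fun A => (A : M8)) Subtype.val_injective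
  have hp : ∀ (a : H) (k : ℕ), (a : G8) ^ k = 1 → a ^ k = 1 := fun a k h => Subtype.ext (by
    rw [Subgroup.coe_pow, h, Subgroup.coe_one])
  have hn : ∀ (a : H) (k : ℕ), {x : XX | a ^ k • x = x}.ncard = nfix ((a : G8) ^ k) := fun a k => by
    rw [nfix_eq_ncard]
    congr 1
  have hn1 : ∀ (a : H), {x : XX | a • x = x}.ncard = nfix (a : G8) := fun a => by
    have := hn a 1
    rwa [pow_one, pow_one] at this
  obtain ⟨D, hDinv', hDcard, hDz'⟩ := count_orbits (G := H) (X := XX) card_XX h13 h17 (y := ⟨y, hyH⟩) (u := ⟨u, huH⟩)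
    (g := ⟨g, hgH⟩) (z := ⟨z, hzH⟩) (hp _ _ hy) ((hn1 _).trans hyn) (hp _ _ hu) ((hn1 _).trans hun)
    ((hn _ _).trans hu3n) (hp _ _ hg) ((hn _ _).trans hg3n) (hp _ _ hz) ((hn1 _).trans hzn) ((hn _ _).trans hz5n)
  have hDinv : ∀ h ∈ H, ∀ x ∈ D, h • x ∈ D := fun h hh x hx => hDinv' ⟨h, hh⟩ x hx
  have hDz : ∀ x ∈ D, z ^ 5 • x = x := fun x hx => hDz' x hx
  -- the kernel on the complement
  obtain ⟨x₁, hx₁, x₂, hx₂, hne⟩ : ∃ x₁ ∈ D, ∃ x₂ ∈ D, x₁ ≠ x₂ := by
    obtain ⟨x₁, x₂, h1, h2, h3⟩ := (Set.one_lt_ncard_iff (Set.toFinite D)).1 (by rw [hDcard]; norm_num)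
    exact ⟨x₁, h1, x₂, h2, h3⟩
  obtain ⟨a, ha0, ha⟩ := exists_diff hne
  let W : Submodule (ZMod 2) V8 :=
    { carrier := {v | ∀ h ∈ H, (∀ x ∈ D, h • x = x) → (h : M8) *ᵥ v = v}
      zero_mem' := fun h _ _ => Matrix.mulVec_zero _
      add_mem' := fun {v w} hv hw h hh hx => by rw [Matrix.mulVec_add, hv h hh hx, hw h hh hx]
      smul_mem' := fun c v hv h hh hx => by rw [Matrix.mulVec_smul, hv h hh hx] }
  have hWinv : ∀ k ∈ H, ∀ v ∈ W, (k : M8) *ᵥ v ∈ W := by
    intro k hk v hv h hh hx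
    have h1 := hv (k⁻¹ * h * k) (H.mul_mem (H.mul_mem (H.inv_mem hk) hh) hk) fun x hxD => by
      rw [mul_smul, mul_smul, hx _ (hDinv k hk x hxD), inv_smul_smul]
    rw [Submonoid.coe_mul, Submonoid.coe_mul, ← Matrix.mulVec_mulVec, ← Matrix.mulVec_mulVec] at h1
    have h2 := congrArg (fun w => (k : M8) *ᵥ w) h1
    simp only [mul_inv_mulVec] at h2
    exact h2
  rcases sp8_irr hy hyf hu hu3 huf W (hWinv y hyH) (hWinv u huH) with h | h
  · apply ha0
    have h1 : a ∈ W := fun k hk hx => ha k (hx x₁ hx₁) (hx x₂ hx₂)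
    rw [h] at h1
    exact h1
  · apply hz5
    apply Subtype.ext
    apply Matrix.toLin'.injective
    apply LinearMap.ext
    intro v
    have h1 : v ∈ W := by rw [h]; exact Submodule.mem_top
    have h2 := h1 (z ^ 5) (H.pow_mem hzH 5) hDz
    rw [Matrix.toLin'_apply, h2]
    simp only [_root_.OneMemClass.coe_one, _root_.Matrix.toLin'_one, _root_.LinearMap.id_coe, _root_.id_eq]

end main

end Cfsg.Agent.H901.Der
end

section
prune_inst 0x400000

-- part: H901/Der/SpEightM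
section
set_option linter.all false
open scoped Cfsg.Agent.FastGrp

/-!
# Explicit elements of `Sp₈(2)` (S3502)
-/

set_option autoImplicit false
set_option maxRecDepth 100000

namespace Cfsg.Agent.H901.Der

open Cfsg Matrix
open scoped Matrix

theorem pow_step {A : G8} {a b : ℕ} {P Q : M8} (hP : ((A ^ a : G8) : M8) = P) (hQ : ((A ^ b : G8) : M8) = Q) :
    ((A ^ (a + b) : G8) : M8) = P * Q := by
  rw [pow_add, Submonoid.coe_mul, hP, hQ]

def my1 : M8 := Matrix.fromBlocks !![0, 1, 0, 0; 1, 1, 0, 0; 0, 0, 0, 1; 0, 0, 1, 1] !![1, 1, 0, 0; 0, 0, 0, 0; 0, 0, 1, 1; 0, 0, 0, 0]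
  !![0, 1, 0, 0; 0, 0, 0, 0; 0, 0, 0, 1; 0, 0, 0, 0] !![0, 0, 0, 0; 1, 0, 0, 0; 0, 0, 0, 0; 0, 0, 1, 0]

def my2 : M8 := Matrix.fromBlocks !![1, 0, 0, 0; 1, 0, 0, 0; 0, 0, 1, 0; 0, 0, 1, 0] !![1, 0, 0, 0; 1, 1, 0, 0; 0, 0, 1, 0; 0, 0, 1, 1]
  !![1, 1, 0, 0; 0, 1, 0, 0; 0, 0, 1, 1; 0, 0, 0, 1] !![0, 0, 0, 0; 0, 0, 0, 0; 0, 0, 0, 0; 0, 0, 0, 0]

def my4 : M8 := Matrix.fromBlocks !![0, 1, 0, 0; 0, 0, 0, 0; 0, 0, 0, 1; 0, 0, 0, 0] !![1, 0, 0, 0; 1, 0, 0, 0; 0, 0, 1, 0; 0, 0, 1, 0]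
  !![0, 0, 0, 0; 1, 0, 0, 0; 0, 0, 0, 0; 0, 0, 1, 0] !![0, 1, 0, 0; 1, 1, 0, 0; 0, 0, 0, 1; 0, 0, 1, 1]

def mu1 : M8 := Matrix.fromBlocks !![0, 0, 0, 0; 0, 0, 0, 0; 1, 1, 0, 0; 0, 0, 0, 0] !![1, 1, 1, 0; 0, 0, 1, 0; 0, 1, 0, 0; 0, 0, 0, 1]
  !![1, 0, 0, 0; 0, 1, 1, 0; 0, 0, 0, 0; 0, 0, 0, 1] !![1, 1, 1, 0; 0, 1, 0, 0; 0, 1, 1, 0; 0, 0, 0, 1]

def mu2 : M8 := Matrix.fromBlocks !![1, 1, 1, 0; 0, 0, 0, 0; 0, 1, 1, 0; 0, 0, 0, 1] !![1, 1, 0, 0; 0, 1, 1, 0; 1, 0, 0, 0; 0, 0, 0, 1]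
  !![1, 1, 1, 0; 1, 0, 1, 0; 0, 1, 1, 0; 0, 0, 0, 1] !![0, 0, 1, 0; 0, 0, 1, 0; 0, 0, 1, 0; 0, 0, 0, 0]

def mu3 : M8 := Matrix.fromBlocks !![0, 0, 1, 0; 0, 1, 1, 0; 0, 1, 0, 0; 0, 0, 0, 1] !![0, 0, 1, 0; 0, 0, 1, 0; 1, 0, 0, 0; 0, 0, 0, 0]
  !![1, 1, 0, 0; 1, 1, 0, 0; 1, 1, 0, 0; 0, 0, 0, 0] !![1, 1, 1, 0; 1, 1, 0, 0; 0, 0, 0, 0; 0, 0, 0, 1]

def mu6 : M8 := Matrix.fromBlocks !![1, 0, 0, 0; 1, 1, 1, 0; 1, 0, 1, 0; 0, 0, 0, 1] !![1, 0, 0, 0; 1, 0, 1, 0; 1, 1, 0, 0; 0, 0, 0, 0]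
  !![1, 0, 0, 0; 0, 1, 0, 0; 0, 1, 0, 0; 0, 0, 0, 0] !![0, 0, 1, 0; 0, 0, 1, 0; 0, 0, 0, 0; 0, 0, 0, 1]

def mu7 : M8 := Matrix.fromBlocks !![1, 0, 0, 0; 0, 1, 0, 0; 0, 0, 1, 0; 0, 0, 0, 0] !![0, 0, 0, 0; 0, 0, 0, 0; 0, 0, 0, 0; 0, 0, 0, 1]
  !![0, 0, 0, 0; 0, 0, 0, 0; 0, 0, 0, 0; 0, 0, 0, 1] !![1, 0, 0, 0; 0, 1, 0, 0; 0, 0, 1, 0; 0, 0, 0, 1]

def mu14 : M8 := Matrix.fromBlocks !![1, 0, 0, 0; 0, 1, 0, 0; 0, 0, 1, 0; 0, 0, 0, 1] !![0, 0, 0, 0; 0, 0, 0, 0; 0, 0, 0, 0; 0, 0, 0, 1]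
  !![0, 0, 0, 0; 0, 0, 0, 0; 0, 0, 0, 0; 0, 0, 0, 1] !![1, 0, 0, 0; 0, 1, 0, 0; 0, 0, 1, 0; 0, 0, 0, 0]

def mg1 : M8 := Matrix.fromBlocks !![1, 1, 0, 0; 0, 1, 1, 0; 1, 0, 0, 0; 0, 0, 0, 1] !![0, 1, 0, 0; 0, 1, 0, 0; 0, 0, 0, 0; 0, 0, 0, 0]
  !![1, 0, 0, 0; 1, 1, 1, 0; 0, 0, 1, 0; 0, 0, 0, 0] !![0, 1, 1, 0; 0, 1, 1, 0; 1, 1, 1, 0; 0, 0, 0, 1]

def mg2 : M8 := Matrix.fromBlocks !![0, 1, 0, 0; 0, 0, 0, 0; 1, 1, 0, 0; 0, 0, 0, 1] !![0, 1, 1, 0; 0, 0, 1, 0; 0, 1, 0, 0; 0, 0, 0, 0]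
  !![0, 0, 0, 0; 1, 1, 1, 0; 1, 1, 0, 0; 0, 0, 0, 0] !![1, 1, 0, 0; 1, 0, 0, 0; 1, 1, 1, 0; 0, 0, 0, 1]

def mg3 : M8 := Matrix.fromBlocks !![1, 0, 1, 0; 0, 0, 1, 0; 0, 1, 0, 0; 0, 0, 0, 1] !![1, 1, 0, 0; 1, 1, 1, 0; 0, 1, 1, 0; 0, 0, 0, 0]
  !![0, 1, 1, 0; 1, 0, 1, 0; 1, 1, 1, 0; 0, 0, 0, 0] !![0, 0, 0, 0; 0, 1, 1, 0; 1, 1, 1, 0; 0, 0, 0, 1]

def mg6 : M8 := Matrix.fromBlocks !![0, 0, 1, 0; 0, 1, 1, 0; 0, 1, 1, 0; 0, 0, 0, 1] !![1, 1, 0, 0; 1, 1, 1, 0; 0, 1, 1, 0; 0, 0, 0, 0]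
  !![0, 1, 1, 0; 1, 0, 1, 0; 1, 1, 1, 0; 0, 0, 0, 0] !![1, 0, 0, 0; 0, 0, 1, 0; 1, 1, 0, 0; 0, 0, 0, 1]

def mz1 : M8 := Matrix.fromBlocks !![0, 1, 0, 0; 1, 1, 0, 0; 0, 0, 0, 0; 0, 0, 0, 0] !![1, 1, 0, 0; 0, 0, 0, 0; 0, 0, 1, 0; 0, 0, 0, 1]
  !![0, 1, 0, 0; 0, 0, 0, 0; 0, 0, 1, 0; 0, 0, 0, 1] !![0, 0, 0, 0; 1, 0, 0, 0; 0, 0, 1, 0; 0, 0, 0, 1]

def mz2 : M8 := Matrix.fromBlocks !![1, 0, 0, 0; 1, 0, 0, 0; 0, 0, 1, 0; 0, 0, 0, 1] !![1, 0, 0, 0; 1, 1, 0, 0; 0, 0, 1, 0; 0, 0, 0, 1]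
  !![1, 1, 0, 0; 0, 1, 0, 0; 0, 0, 1, 0; 0, 0, 0, 1] !![0, 0, 0, 0; 0, 0, 0, 0; 0, 0, 0, 0; 0, 0, 0, 0]

def mz3 : M8 := Matrix.fromBlocks !![0, 0, 0, 0; 0, 0, 0, 0; 0, 0, 1, 0; 0, 0, 0, 1] !![1, 1, 0, 0; 0, 1, 0, 0; 0, 0, 0, 0; 0, 0, 0, 0]
  !![1, 0, 0, 0; 1, 1, 0, 0; 0, 0, 0, 0; 0, 0, 0, 0] !![1, 1, 0, 0; 0, 0, 0, 0; 0, 0, 1, 0; 0, 0, 0, 1]

def mz5 : M8 := Matrix.fromBlocks !![1, 0, 0, 0; 0, 1, 0, 0; 0, 0, 1, 0; 0, 0, 0, 1] !![0, 0, 0, 0; 0, 0, 0, 0; 0, 0, 1, 0; 0, 0, 0, 1]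
  !![0, 0, 0, 0; 0, 0, 0, 0; 0, 0, 1, 0; 0, 0, 0, 1] !![1, 0, 0, 0; 0, 1, 0, 0; 0, 0, 0, 0; 0, 0, 0, 0]

def mz10 : M8 := Matrix.fromBlocks !![1, 0, 0, 0; 0, 1, 0, 0; 0, 0, 0, 0; 0, 0, 0, 0] !![0, 0, 0, 0; 0, 0, 0, 0; 0, 0, 1, 0; 0, 0, 0, 1]
  !![0, 0, 0, 0; 0, 0, 0, 0; 0, 0, 1, 0; 0, 0, 0, 1] !![1, 0, 0, 0; 0, 1, 0, 0; 0, 0, 1, 0; 0, 0, 0, 1]

def ms1 : M8 := Matrix.fromBlocks !![0, 0, 1, 0; 0, 0, 0, 1; 1, 0, 0, 0; 0, 1, 0, 0] !![0, 0, 0, 0; 0, 0, 0, 0; 0, 0, 0, 0; 0, 0, 0, 0]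
  !![0, 0, 0, 0; 0, 0, 0, 0; 0, 0, 0, 0; 0, 0, 0, 0] !![0, 0, 1, 0; 0, 0, 0, 1; 1, 0, 0, 0; 0, 1, 0, 0]

def mt1 : M8 := Matrix.fromBlocks !![0, 1, 1, 0; 1, 1, 1, 0; 1, 0, 1, 1; 1, 0, 1, 0] !![0, 0, 0, 1; 0, 1, 1, 0; 0, 1, 0, 0; 1, 0, 0, 1]
  !![1, 1, 0, 1; 1, 1, 1, 0; 0, 1, 1, 1; 1, 0, 1, 1] !![1, 1, 1, 1; 1, 0, 0, 0; 1, 1, 0, 1; 0, 0, 1, 1]

def mt2 : M8 := Matrix.fromBlocks !![1, 1, 1, 0; 1, 0, 1, 0; 1, 0, 0, 1; 1, 0, 1, 1] !![0, 0, 0, 1; 0, 1, 1, 0; 0, 1, 0, 0; 1, 0, 0, 1]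
  !![1, 1, 0, 1; 1, 1, 1, 0; 0, 1, 1, 1; 1, 0, 1, 1] !![0, 1, 1, 1; 1, 1, 0, 0; 1, 1, 1, 1; 0, 0, 1, 0]

theorem my_mul2 : my1 * my1 = my2 := by decide +kernel

theorem my_mul4 : my2 * my2 = my4 := by decide +kernel

theorem my_mul5 : my4 * my1 = 1 := by decide +kernel

theorem mu_mul2 : mu1 * mu1 = mu2 := by decide +kernel

theorem mu_mul3 : mu2 * mu1 = mu3 := by decide +kernel

theorem mu_mul6 : mu3 * mu3 = mu6 := by decide +kernel

theorem mu_mul7 : mu6 * mu1 = mu7 := by decide +kernel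

theorem mu_mul14 : mu7 * mu7 = mu14 := by decide +kernel

theorem mu_mul21 : mu14 * mu7 = 1 := by decide +kernel

theorem mg_mul2 : mg1 * mg1 = mg2 := by decide +kernel

theorem mg_mul3 : mg2 * mg1 = mg3 := by decide +kernel

theorem mg_mul6 : mg3 * mg3 = mg6 := by decide +kernel

theorem mg_mul9 : mg6 * mg3 = 1 := by decide +kernel

theorem mz_mul2 : mz1 * mz1 = mz2 := by decide +kernel

theorem mz_mul3 : mz2 * mz1 = mz3 := by decide +kernel

theorem mz_mul5 : mz3 * mz2 = mz5 := by decide +kernel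

theorem mz_mul10 : mz5 * mz5 = mz10 := by decide +kernel

theorem mz_mul15 : mz10 * mz5 = 1 := by decide +kernel

theorem ms_mul2 : ms1 * ms1 = 1 := by decide +kernel

theorem mt_mul2 : mt1 * mt1 = mt2 := by decide +kernel

theorem mt_mul3 : mt2 * mt1 = 1 := by decide +kernel

theorem my_mem : my1 ∈ Matrix.symplecticGroup (Fin 4) (ZMod 2) := by
  rw [SymplecticGroup.mem_iff]
  decide +kernel

/-- the element `y` -/
def yG : G8 := ⟨my1, my_mem⟩

theorem mu_mem : mu1 ∈ Matrix.symplecticGroup (Fin 4) (ZMod 2) := by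
  rw [SymplecticGroup.mem_iff]
  decide +kernel

/-- the element `u` -/
def uG : G8 := ⟨mu1, mu_mem⟩

theorem mg_mem : mg1 ∈ Matrix.symplecticGroup (Fin 4) (ZMod 2) := by
  rw [SymplecticGroup.mem_iff]
  decide +kernel

/-- the element `g` -/
def gG : G8 := ⟨mg1, mg_mem⟩

theorem mz_mem : mz1 ∈ Matrix.symplecticGroup (Fin 4) (ZMod 2) := by
  rw [SymplecticGroup.mem_iff]
  decide +kernel

/-- the element `z` -/
def zG : G8 := ⟨mz1, mz_mem⟩

theorem ms_mem : ms1 ∈ Matrix.symplecticGroup (Fin 4) (ZMod 2) := by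
  rw [SymplecticGroup.mem_iff]
  decide +kernel

/-- the element `s` -/
def sG : G8 := ⟨ms1, ms_mem⟩

theorem mt_mem : mt1 ∈ Matrix.symplecticGroup (Fin 4) (ZMod 2) := by
  rw [SymplecticGroup.mem_iff]
  decide +kernel

/-- the element `t` -/
def tG : G8 := ⟨mt1, mt_mem⟩

theorem y_pow1 : ((yG ^ 1 : G8) : M8) = my1 := by rw [pow_one]; rfl

theorem y_pow2 : ((yG ^ 2 : G8) : M8) = my2 :=
  (pow_step (a := 1) (b := 1) y_pow1 y_pow1).trans my_mul2

theorem y_pow4 : ((yG ^ 4 : G8) : M8) = my4 :=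
  (pow_step (a := 2) (b := 2) y_pow2 y_pow2).trans my_mul4

theorem y_pow5 : ((yG ^ 5 : G8) : M8) = 1 :=
  (pow_step (a := 4) (b := 1) y_pow4 y_pow1).trans my_mul5

theorem y_one : yG ^ 5 = 1 := Subtype.ext y_pow5

theorem u_pow1 : ((uG ^ 1 : G8) : M8) = mu1 := by rw [pow_one]; rfl

theorem u_pow2 : ((uG ^ 2 : G8) : M8) = mu2 :=
  (pow_step (a := 1) (b := 1) u_pow1 u_pow1).trans mu_mul2

theorem u_pow3 : ((uG ^ 3 : G8) : M8) = mu3 :=
  (pow_step (a := 2) (b := 1) u_pow2 u_pow1).trans mu_mul3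

theorem u_pow6 : ((uG ^ 6 : G8) : M8) = mu6 :=
  (pow_step (a := 3) (b := 3) u_pow3 u_pow3).trans mu_mul6

theorem u_pow7 : ((uG ^ 7 : G8) : M8) = mu7 :=
  (pow_step (a := 6) (b := 1) u_pow6 u_pow1).trans mu_mul7

theorem u_pow14 : ((uG ^ 14 : G8) : M8) = mu14 :=
  (pow_step (a := 7) (b := 7) u_pow7 u_pow7).trans mu_mul14

theorem u_pow21 : ((uG ^ 21 : G8) : M8) = 1 :=
  (pow_step (a := 14) (b := 7) u_pow14 u_pow7).trans mu_mul21

theorem u_one : uG ^ 21 = 1 := Subtype.ext u_pow21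

theorem g_pow1 : ((gG ^ 1 : G8) : M8) = mg1 := by rw [pow_one]; rfl

theorem g_pow2 : ((gG ^ 2 : G8) : M8) = mg2 :=
  (pow_step (a := 1) (b := 1) g_pow1 g_pow1).trans mg_mul2

theorem g_pow3 : ((gG ^ 3 : G8) : M8) = mg3 :=
  (pow_step (a := 2) (b := 1) g_pow2 g_pow1).trans mg_mul3

theorem g_pow6 : ((gG ^ 6 : G8) : M8) = mg6 :=
  (pow_step (a := 3) (b := 3) g_pow3 g_pow3).trans mg_mul6

theorem g_pow9 : ((gG ^ 9 : G8) : M8) = 1 :=
  (pow_step (a := 6) (b := 3) g_pow6 g_pow3).trans mg_mul9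

theorem g_one : gG ^ 9 = 1 := Subtype.ext g_pow9

theorem z_pow1 : ((zG ^ 1 : G8) : M8) = mz1 := by rw [pow_one]; rfl

theorem z_pow2 : ((zG ^ 2 : G8) : M8) = mz2 :=
  (pow_step (a := 1) (b := 1) z_pow1 z_pow1).trans mz_mul2

theorem z_pow3 : ((zG ^ 3 : G8) : M8) = mz3 :=
  (pow_step (a := 2) (b := 1) z_pow2 z_pow1).trans mz_mul3

theorem z_pow5 : ((zG ^ 5 : G8) : M8) = mz5 :=
  (pow_step (a := 3) (b := 2) z_pow3 z_pow2).trans mz_mul5

theorem z_pow10 : ((zG ^ 10 : G8) : M8) = mz10 :=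
  (pow_step (a := 5) (b := 5) z_pow5 z_pow5).trans mz_mul10

theorem z_pow15 : ((zG ^ 15 : G8) : M8) = 1 :=
  (pow_step (a := 10) (b := 5) z_pow10 z_pow5).trans mz_mul15

theorem z_one : zG ^ 15 = 1 := Subtype.ext z_pow15

theorem s_pow1 : ((sG ^ 1 : G8) : M8) = ms1 := by rw [pow_one]; rfl

theorem s_pow2 : ((sG ^ 2 : G8) : M8) = 1 :=
  (pow_step (a := 1) (b := 1) s_pow1 s_pow1).trans ms_mul2

theorem s_one : sG ^ 2 = 1 := Subtype.ext s_pow2

theorem t_pow1 : ((tG ^ 1 : G8) : M8) = mt1 := by rw [pow_one]; rfl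

theorem t_pow2 : ((tG ^ 2 : G8) : M8) = mt2 :=
  (pow_step (a := 1) (b := 1) t_pow1 t_pow1).trans mt_mul2

theorem t_pow3 : ((tG ^ 3 : G8) : M8) = 1 :=
  (pow_step (a := 2) (b := 1) t_pow2 t_pow1).trans mt_mul3

theorem t_one : tG ^ 3 = 1 := Subtype.ext t_pow3

theorem sy_comm : ms1 * my1 = my1 * ms1 := by decide +kernel

theorem ty_comm : mt1 * my1 = my1 * mt1 := by decide +kernel

theorem commute_sy : Commute yG sG := Subtype.ext sy_comm.symm

theorem commute_ty : Commute yG tG := Subtype.ext ty_comm.symm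

theorem s_ne : sG ≠ 1 := fun h => absurd (congrArg Subtype.val h : ms1 = 1) (by decide +kernel)

theorem t_ne : tG ≠ 1 := fun h => absurd (congrArg Subtype.val h : mt1 = 1) (by decide +kernel)

theorem y_ne : yG ≠ 1 := fun h => absurd (congrArg Subtype.val h : my1 = 1) (by decide +kernel)

theorem z5_ne : zG ^ 5 ≠ 1 := fun h => by
  have h1 := congrArg Subtype.val h
  rw [z_pow5] at h1
  exact absurd (h1 : mz5 = 1) (by decide +kernel)

theorem u3_ne : uG ^ 3 ≠ 1 := fun h => by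
  have h1 := congrArg Subtype.val h
  rw [u_pow3] at h1
  exact absurd (h1 : mu3 = 1) (by decide +kernel)

private theorem fix_of {A : M8} (N : M8) (h : N * (A - 1) = 1) : ∀ v, A *ᵥ v = v → v = 0 := by
  intro v hv
  rw [← Matrix.one_mulVec v, ← h, ← Matrix.mulVec_mulVec, Matrix.sub_mulVec, hv, Matrix.one_mulVec, sub_self,
    Matrix.mulVec_zero]

theorem y_fix : ∀ v, (yG : M8) *ᵥ v = v → v = 0 :=
  fix_of (A := my1) (Matrix.fromBlocks !![0, 1, 0, 0; 1, 1, 0, 0; 0, 0, 0, 1; 0, 0, 1, 1] !![0, 0, 0, 0; 0, 1, 0, 0; 0, 0, 0, 0; 0, 0, 0, 1]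
    !![1, 1, 0, 0; 1, 1, 0, 0; 0, 0, 1, 1; 0, 0, 1, 1] !![1, 1, 0, 0; 1, 0, 0, 0; 0, 0, 1, 1; 0, 0, 1, 0]) (by decide +kernel)

theorem u_fix : ∀ v, (uG : M8) *ᵥ v = v → v = 0 :=
  fix_of (A := mu1) (Matrix.fromBlocks !![0, 0, 1, 0; 0, 1, 1, 0; 0, 1, 1, 0; 0, 0, 0, 0] !![0, 1, 1, 0; 1, 1, 0, 0; 1, 0, 0, 0; 0, 0, 0, 1]
    !![1, 0, 0, 0; 0, 0, 0, 0; 0, 0, 1, 0; 0, 0, 0, 1] !![1, 0, 0, 0; 0, 0, 1, 0; 1, 1, 0, 0; 0, 0, 0, 1]) (by decide +kernel)

/-- the count of `nfix_eq` -/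
def cnt (A : M8) : ℕ := (Finset.univ.filter fun a : V8 => q0 a = 0 ∧
    ∀ i, qa a (A *ᵥ Pi.single i 1) = qa a (Pi.single i 1)).card

private theorem cnt_all : cnt my1 = 1 ∧ cnt mu1 = 0 ∧ cnt mu3 = 3 ∧ cnt mg3 = 1 ∧ cnt mz1 = 0 ∧ cnt mz5 = 10 := by
  decide +kernel

theorem cnt_y : cnt my1 = 1 := cnt_all.1

theorem cnt_u : cnt mu1 = 0 := cnt_all.2.1

theorem cnt_u3 : cnt mu3 = 3 := cnt_all.2.2.1

theorem cnt_g3 : cnt mg3 = 1 := cnt_all.2.2.2.1

theorem cnt_z : cnt mz1 = 0 := cnt_all.2.2.2.2.1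

theorem cnt_z5 : cnt mz5 = 10 := cnt_all.2.2.2.2.2

theorem nfix_cnt (A : G8) : nfix A = cnt (A : M8) := nfix_eq A

theorem nfix_y : nfix yG = 1 := (nfix_cnt _).trans cnt_y

theorem nfix_u : nfix uG = 0 := (nfix_cnt _).trans cnt_u

theorem nfix_u3 : nfix (uG ^ 3) = 3 := by rw [nfix_cnt, u_pow3, cnt_u3]

theorem nfix_g3 : nfix (gG ^ 3) = 1 := by rw [nfix_cnt, g_pow3, cnt_g3]

theorem nfix_z : nfix zG = 0 := (nfix_cnt _).trans cnt_z

theorem nfix_z5 : nfix (zG ^ 5) = 10 := by rw [nfix_cnt, z_pow5, cnt_z5]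

end Cfsg.Agent.H901.Der
end

-- part: H901/Der/SpEightRow
section
set_option linter.all false
open scoped Cfsg.Agent.FastGrp

/-!
# S3502: `PSp₈(2)`
-/

set_option autoImplicit false
set_option linter.style.haveILetI false

namespace Cfsg.Agent.H901.Der

open Matrix Cfsg Cfsg.Geo Cfsg.Agent.H439.Der Cfsg.Agent.H876 Cfsg.Agent.H262.El Cfsg.Agent.OrdDiv Cfsg.Agent.H436
  Cfsg.Agent.H931 Cfsg.Agent.ClassicalGeometry.SympBasic Cfsg.Agent.H264.FKS
open Cfsg.Agent.H938.Sax (PGap)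
open Cfsg.Agent.H388.Der (nsc_psp blk_of_od)

/-- the automorphisms of `PSp₈(2)` are inner -/
theorem aut_sp8 (φ : PSp 4 (ZMod 2) ≃* PSp 4 (ZMod 2)) : ∃ B : G8, ∀ A : G8,
    φ (QuotientGroup.mk A) = QuotientGroup.mk (B * A * B⁻¹) := by
  obtain ⟨σ, μ, T, hμ, ⟨h1, h2, h3⟩, hT⟩ := semi (by norm_num) φ
  have hσ : ∀ a, σ a = a := by
    intro a
    have : a = 0 ∨ a = 1 := (by decide : ∀ x : ZMod 2, x = 0 ∨ x = 1) a
    rcases this with rfl | rfl
    · exact map_zero σ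
    · exact map_one σ
  have hμ1 : μ = 1 := ((by decide : ∀ x : ZMod 2, x = 0 ∨ x = 1) μ).resolve_left hμ
  subst hμ1
  let L : V8 →ₗ[ZMod 2] V8 :=
    { toFun := T
      map_add' := h1
      map_smul' := fun c v => by rw [h2, hσ]; rfl }
  have hL : ∀ v, (LinearMap.toMatrix' L) *ᵥ v = T v := fun v => by
    rw [LinearMap.toMatrix'_mulVec]
    rfl
  have hB : LinearMap.toMatrix' L ∈ Matrix.symplecticGroup (Fin 4) (ZMod 2) := by
    rw [mem_symplecticGroup_iff]
    intro u v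
    rw [hL, hL, h3, hσ, one_mul]
  refine ⟨⟨_, hB⟩, fun A => ?_⟩
  obtain ⟨C, hC, hC'⟩ := hT A
  rw [hC']
  refine congrArg _ ?_
  rw [eq_mul_inv_iff_mul_eq]
  apply Subtype.ext
  apply Matrix.toLin'.injective
  apply LinearMap.ext
  intro v
  rw [Matrix.toLin'_apply, Matrix.toLin'_apply, Submonoid.coe_mul, Submonoid.coe_mul, ← Matrix.mulVec_mulVec,
    ← Matrix.mulVec_mulVec, hL, hL]
  exact hC v

theorem mk_inj {A B : G8} (h : (QuotientGroup.mk A : PSp 4 (ZMod 2)) = QuotientGroup.mk B) : A = B := by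
  rw [QuotientGroup.eq] at h
  obtain ⟨c, hc⟩ := (LieClassical.SympCenter.mem_center_iff 4 _).1 h
  have hc2 : c = 0 ∨ c = 1 := (by decide : ∀ x : ZMod 2, x = 0 ∨ x = 1) c
  rcases hc2 with rfl | rfl
  · exfalso
    rw [zero_smul] at hc
    have h1 := mul_inv_mulVec (A⁻¹ * B) (Pi.single (Sum.inl 0) 1)
    rw [show ((A⁻¹ * B : G8) : M8) = 0 from hc, Matrix.zero_mulVec] at h1
    have := congrFun h1 (Sum.inl 0)
    rw [Pi.single_eq_same] at this
    exact zero_ne_one this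
  · rw [one_smul] at hc
    have : A⁻¹ * B = 1 := Subtype.ext hc
    rw [inv_mul_eq_one] at this
    exact this

theorem conj_pow' (A B : G8) (k : ℕ) : (B * A * B⁻¹) ^ k = B * A ^ k * B⁻¹ := by
  rw [conj_pow]

theorem conj_one {A B : G8} {k : ℕ} (h : A ^ k = 1) : (B * A * B⁻¹) ^ k = 1 := by
  rw [conj_pow, h, mul_one, mul_inv_cancel]

theorem conj_ne {A B : G8} {k : ℕ} (h : A ^ k ≠ 1) : (B * A * B⁻¹) ^ k ≠ 1 := fun e => h (by
  rw [conj_pow, mul_inv_eq_one, mul_eq_left] at e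
  exact e)

theorem conj_fix {A B : G8} (h : ∀ v, (A : M8) *ᵥ v = v → v = 0) :
    ∀ v, ((B * A * B⁻¹ : G8) : M8) *ᵥ v = v → v = 0 := by
  intro v hv
  have h1 : (A : M8) *ᵥ (((B⁻¹ : G8) : M8) *ᵥ v) = ((B⁻¹ : G8) : M8) *ᵥ v := by
    have h2 := congrArg (fun w => ((B⁻¹ : G8) : M8) *ᵥ w) hv
    simp only [Submonoid.coe_mul, ← Matrix.mulVec_mulVec, inv_mul_mulVec] at h2
    exact h2
  have h3 := h _ h1
  rw [← mul_inv_mulVec B v, h3, Matrix.mulVec_zero]

theorem comap_card (R : Subgroup (PSp 4 (ZMod 2))) :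
    Nat.card (R.comap (QuotientGroup.mk' (Subgroup.center G8))) = Nat.card R := by
  have hmap : (R.comap (QuotientGroup.mk' (Subgroup.center G8))).map (QuotientGroup.mk' (Subgroup.center G8)) = R :=
    Subgroup.map_comap_eq_self_of_surjective (QuotientGroup.mk'_surjective _) R
  conv_rhs => rw [← hmap]
  exact Nat.card_congr ((R.comap (QuotientGroup.mk' (Subgroup.center G8))).equivMapOfInjective
    (QuotientGroup.mk' (Subgroup.center G8)) fun _ _ h => mk_inj h).toEquiv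

/-- one of the four elements is missing -/
theorem sp8_missing {R : Subgroup (PSp 4 (ZMod 2))} (h13 : ¬ 13 ∣ Nat.card R) (h17 : ¬ 17 ∣ Nat.card R) :
    ∃ A : G8, (∀ φ : PSp 4 (ZMod 2) ≃* PSp 4 (ZMod 2), φ (QuotientGroup.mk A) ∉ R) ∧
      (A = yG ∨ A = uG ∨ A = gG ∨ A = zG) := by
  by_contra hcon
  push Not at hcon
  have key : ∀ A : G8, (A = yG ∨ A = uG ∨ A = gG ∨ A = zG) → ∃ B : G8,
      B * A * B⁻¹ ∈ R.comap (QuotientGroup.mk' (Subgroup.center G8)) := by
    intro A hA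
    by_contra h
    push Not at h
    obtain ⟨h1, h2, h3, h4⟩ := hcon A (fun φ hφ => by
      obtain ⟨B, hB⟩ := aut_sp8 φ
      rw [hB] at hφ
      exact h B hφ)
    rcases hA with h | h | h | h
    · exact h1 h
    · exact h2 h
    · exact h3 h
    · exact h4 h
  obtain ⟨B₁, hB₁⟩ := key yG (Or.inl rfl)
  obtain ⟨B₂, hB₂⟩ := key uG (Or.inr (Or.inl rfl))
  obtain ⟨B₃, hB₃⟩ := key gG (Or.inr (Or.inr (Or.inl rfl)))
  obtain ⟨B₄, hB₄⟩ := key zG (Or.inr (Or.inr (Or.inr rfl)))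
  refine sp8_contra (by rwa [comap_card]) (by rwa [comap_card]) hB₁ hB₂ hB₃ hB₄ (conj_one y_one)
    (conj_fix y_fix) ?_ (conj_one u_one) (conj_ne u3_ne) (conj_fix u_fix) ?_ ?_ (conj_one g_one) ?_ (conj_one z_one)
    (conj_ne z5_ne) ?_ ?_
  · rw [nfix_conj, nfix_y]
  · rw [nfix_conj, nfix_u]
  · rw [conj_pow', nfix_conj, nfix_u3]
  · rw [conj_pow', nfix_conj, nfix_g3]
  · rw [nfix_conj, nfix_z]
  · rw [conj_pow', nfix_conj, nfix_z5]

/-- three classes if `y` is missing -/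
theorem three_of_y {R : Subgroup (PSp 4 (ZMod 2))}
    (h : ∀ φ : PSp 4 (ZMod 2) ≃* PSp 4 (ZMod 2), φ (QuotientGroup.mk yG) ∉ R) : Three (PSp 4 (ZMod 2)) R := by
  have hfin : Finite (PSp 4 (ZMod 2)) := Quotient.finite _
  have := Fact.mk Nat.prime_five
  have h2 : ((2 : ZMod 2)) = 0 := rfl
  have hy : orderOf (QuotientGroup.mk yG : PSp 4 (ZMod 2)) = 5 := by
    rw [orderOf_mk_even h2]
    exact orderOf_eq_prime y_one y_ne
  have hs : orderOf (QuotientGroup.mk sG : PSp 4 (ZMod 2)) = 2 := by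
    rw [orderOf_mk_even h2]
    exact orderOf_eq_prime s_one s_ne
  have ht : orderOf (QuotientGroup.mk tG : PSp 4 (ZMod 2)) = 3 := by
    rw [orderOf_mk_even h2]
    exact orderOf_eq_prime t_one t_ne
  refine three_of_missing h (commute_sy.map (QuotientGroup.mk' (Subgroup.center G8)))
    (commute_ty.map (QuotientGroup.mk' (Subgroup.center G8))) ?_ ?_ ?_ ?_ ?_
  · rw [hy, show orderOf (QuotientGroup.mk' (Subgroup.center G8) sG) = 2 from hs]; norm_num
  · rw [hy, show orderOf (QuotientGroup.mk' (Subgroup.center G8) tG) = 3 from ht]; norm_num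
  · rw [show orderOf (QuotientGroup.mk' (Subgroup.center G8) sG) = 2 from hs]; norm_num
  · rw [show orderOf (QuotientGroup.mk' (Subgroup.center G8) tG) = 3 from ht]; norm_num
  · rw [show orderOf (QuotientGroup.mk' (Subgroup.center G8) sG) = 2 from hs,
      show orderOf (QuotientGroup.mk' (Subgroup.center G8) tG) = 3 from ht]; norm_num

theorem three_sp82' (tab : OrderTable.{0})
    (hK : ∀ (X : Type) [Group X] [Finite X] [IsSimpleGroup X], Cfsg.IsKnownSimple' X)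
    {R : Subgroup (PSp 4 (ZMod 2))} (hR : R ≠ ⊤) : Three (PSp 4 (ZMod 2)) R := by
  have hfin : Finite (PSp 4 (ZMod 2)) := Quotient.finite _
  have hex : ¬ ((4 : ℕ) = 3 ∧ Fintype.card (ZMod 2) = 2) := by omega
  have hnsc := nsc_psp (F := ZMod 2) (m := 4) (by norm_num) hex
  have hc : Nat.card (PSp 4 (ZMod 2)) = 47377612800 := by
    rw [H732.SelfCent.card_psp_eight (ZMod.card 2)]
    norm_num
  rcases Cfsg.Agent.H503.El.pgap_sp82 tab hK (ZMod 2) (ZMod.card 2) R hR with ⟨v, hv, hvT, hvR⟩ | h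
  · by_cases hvs : v ∣ Nat.card (Matrix.symplecticGroup (Fin (4 - 1)) (ZMod 2))
    · have := Fact.mk hv
      obtain ⟨x, hx⟩ := exists_prime_orderOf_dvd_card' v hvT
      exact Three.of_not_dvd hvR (not_scc_small (by norm_num) hv hvs) ⟨x, by rw [hx]⟩
    · have hv17 : v = 17 := by
        have h1 : v ∣ 2 ^ 16 * (3 ^ 5 * (5 ^ 2 * (7 * 17))) := by
          have h2 := hvT
          rw [hc] at h2
          exact h2
        have h7 : 7 ∣ Nat.card (Matrix.symplecticGroup (Fin (4 - 1)) (ZMod 2)) :=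
          dvd_card_sp (j := 3) (by norm_num) le_rfl (by rw [ZMod.card]; norm_num)
        have h2 : 2 ∣ Nat.card (Matrix.symplecticGroup (Fin (4 - 1)) (ZMod 2)) := two_three (by norm_num) (Or.inl rfl)
        have h3 : 3 ∣ Nat.card (Matrix.symplecticGroup (Fin (4 - 1)) (ZMod 2)) := two_three (by norm_num) (Or.inr rfl)
        have h5 : 5 ∣ Nat.card (Matrix.symplecticGroup (Fin (4 - 1)) (ZMod 2)) := five (by norm_num)
        rw [hv.dvd_mul, hv.dvd_mul, hv.dvd_mul, hv.dvd_mul] at h1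
        rcases h1 with h | h | h | h | h
        · rw [(Nat.prime_dvd_prime_iff_eq hv Nat.prime_two).1 (hv.dvd_of_dvd_pow h)] at hvs
          exact absurd h2 hvs
        · rw [(Nat.prime_dvd_prime_iff_eq hv Nat.prime_three).1 (hv.dvd_of_dvd_pow h)] at hvs
          exact absurd h3 hvs
        · rw [(Nat.prime_dvd_prime_iff_eq hv Nat.prime_five).1 (hv.dvd_of_dvd_pow h)] at hvs
          exact absurd h5 hvs
        · rw [(Nat.prime_dvd_prime_iff_eq hv (by norm_num)).1 h] at hvs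
          exact absurd h7 hvs
        · exact (Nat.prime_dvd_prime_iff_eq hv (by norm_num)).1 h
      subst hv17
      have h13 : ¬ 13 ∣ Nat.card R := by
        intro h
        have h1 := h.trans (Subgroup.card_subgroup_dvd_card R)
        rw [hc] at h1
        norm_num at h1
      obtain ⟨A, hA, hor⟩ := sp8_missing h13 hvR
      refine Three.of_not_SC hvR (hnsc 17 hv hvT) hA ?_
      intro h17
      have h1 : A ^ 5 = 1 ∨ A ^ 21 = 1 ∨ A ^ 9 = 1 ∨ A ^ 15 = 1 := by
        rcases hor with rfl | rfl | rfl | rfl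
        · exact Or.inl y_one
        · exact Or.inr (Or.inl u_one)
        · exact Or.inr (Or.inr (Or.inl g_one))
        · exact Or.inr (Or.inr (Or.inr z_one))
      have h2 : ∀ k : ℕ, A ^ k = 1 → 17 ∣ k := fun k hk =>
        h17.trans (orderOf_dvd_of_pow_eq_one (by rw [← QuotientGroup.mk_pow, hk, QuotientGroup.mk_one]))
      rcases h1 with h | h | h | h
      · exact absurd (h2 _ h) (by norm_num)
      · exact absurd (h2 _ h) (by norm_num)
      · exact absurd (h2 _ h) (by norm_num)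
      · exact absurd (h2 _ h) (by norm_num)
  · have h25 : ¬ 5 ^ 2 ∣ Nat.card R := by
      rcases h with h | h
      · rw [h]; norm_num
      · rw [h]; norm_num
    obtain ⟨b, hb, -⟩ := blk_of_od (F := ZMod 2) (k := 2) (r := 5) (by norm_num) (by rw [ZMod.card]; exact od2_5)
    have := Fact.mk Nat.prime_five
    exact three_of_cyc (F := ZMod 2) (k := 2) (r := 5) le_rfl (by norm_num) le_rfl hb
      (y := yG) (orderOf_eq_prime y_one y_ne) y_fix (fun R' h' => three_of_y h') (cyc_of_card (by norm_num) h25)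

theorem three_sp82 {F : Type} [Field F] [Fintype F] (tab : OrderTable.{0})
    (hK : ∀ (X : Type) [Group X] [Finite X] [IsSimpleGroup X], Cfsg.IsKnownSimple' X) (hF : Fintype.card F = 2)
    {R : Subgroup (PSp 4 F)} (hR : R ≠ ⊤) : Three (PSp 4 F) R := by
  obtain ⟨e⟩ : Nonempty (ZMod 2 ≃+* F) := by
    have hc : Fintype.card (ZMod 2) = Fintype.card F := by rw [ZMod.card, hF]
    exact ⟨FiniteField.ringEquivOfCardEq hc⟩
  let E : PSp 4 (ZMod 2) ≃* PSp 4 F := Cfsg.Agent.LieClassical.FieldTransfer.pspCongr 4 e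
  refine Three.congr E (three_sp82' tab hK fun h => hR ?_)
  rw [eq_top_iff]
  intro x _
  have h1 : E.symm x ∈ R.comap E.toMonoidHom := by rw [h]; exact Subgroup.mem_top _
  rw [Subgroup.mem_comap] at h1
  simpa using h1

end Cfsg.Agent.H901.Der
end

-- part: H44/Der/U43Res
section
set_option linter.all false
open scoped Cfsg.Agent.FastGrp

/-!
# The residual class for `U₄(3)` (helper44, for S3502)
-/

set_option autoImplicit false

namespace Cfsg.Agent.H44.Der.U43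

open Subgroup Cfsg Cfsg.Geo Matrix

theorem l34_dvd {K : Type} [Field K] [Fintype K] (hK : Fintype.card K = 4) :
    5 ∣ Nat.card (Matrix.ProjectiveSpecialLinearGroup (Fin 3) K) ∧
      7 ∣ Nat.card (Matrix.ProjectiveSpecialLinearGroup (Fin 3) K) := by
  have : Fact (Nat.Prime 2) := ⟨Nat.prime_two⟩
  have : CharP K 2 := H455.NoNine.charP_of_card (k := 2) Nat.prime_two (by rw [hK]; norm_num)
  have h1 := Cfsg.Agent.S2476.result (F := K) 2
  constructor
  · obtain ⟨x, hx⟩ : 5 ∈ Set.range (orderOf : Matrix.ProjectiveSpecialLinearGroup (Fin 3) K → ℕ) := by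
      rw [h1, hK]
      right; left
      norm_num
    rw [← hx]
    exact orderOf_dvd_natCard x
  · obtain ⟨x, hx⟩ : 7 ∈ Set.range (orderOf : Matrix.ProjectiveSpecialLinearGroup (Fin 3) K → ℕ) := by
      rw [h1, hK]
      left
      norm_num
    rw [← hx]
    exact orderOf_dvd_natCard x

variable {F : Type} [Field F] [Fintype F]

theorem res_u43 (hF : Fintype.card F = 3 ^ 2) : Res F := by
  intro H hH hres
  obtain ⟨P, hP, -, h⟩ := Cfsg.Agent.S5785.result 3 hF H hH hres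
  have h1 : Nat.card (P ⧸ (scalars (Fin 4) F).subgroupOf P) ∣ Nat.card H :=
    (Subgroup.card_quotient_dvd_card _).trans (Subgroup.card_dvd_of_le hP.le)
  rcases h with ⟨⟨e⟩, -⟩ | ⟨⟨K, _, _, hK, ⟨e⟩⟩, -⟩ | ⟨-, h⟩
  · have h2 : Nat.card (alternatingGroup (Fin 7)) = 2520 := by
      rw [Nat.card_eq_fintype_card, card_alternatingGroup]
      simp
      rfl
    rw [Nat.card_congr e.toEquiv, h2] at h1
    exact ⟨(by norm_num : 5 ∣ 2520).trans h1, (by norm_num : 7 ∣ 2520).trans h1⟩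
  · rw [Nat.card_congr e.toEquiv] at h1
    exact ⟨(l34_dvd hK).1.trans h1, (l34_dvd hK).2.trans h1⟩
  · norm_num at h

/-- **`RowS` for `U₄(3)`.** -/
theorem rowS_u43_full (OT : Cfsg.Agent.OrdDiv.OrderTable.{0})
    (hS : ∀ (X : Type) [Group X] [Finite X] [IsSimpleGroup X], Cfsg.IsKnownSimple' X)
    (hF : Fintype.card F = 3 ^ 2) : Cfsg.Agent.H439.Der.RowS (PSU 4 F 3) :=
  rowS_u43 OT hS hF (res_u43 hF)

end Cfsg.Agent.H44.Der.U43
end
end
end
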